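import Cfsg.Agent.H89.CZE
import Cfsg.Agent.H23.PGModel
import Cfsg.Agent.S0700
import Cfsg.Agent.S2119

/-! Doubly transitive groups with a cyclic regular subgroup and point stabilisers Z-groups. -/

set_option autoImplicit false
set_option linter.unusedSectionVars false

namespace Cfsg.Agent.H89CZ

open Subgroup MulAction
open scoped MatrixGroups commutatorElement

universe u

theorem aut_iso {F : Type} [Field F] [Fintype F] (hp : (Fintype.card F).Prime) (h2 : 3 < Fintype.card F) :
    Nonempty (MulAut PSL(2, F) ≃* GL (Fin 2) F ⧸ center (GL (Fin 2) F)) ∧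
      Nat.card (MulAut PSL(2, F)) = 2 * Nat.card PSL(2, F) := by
  have e : PGL(2, F) ≃* MulAut PSL(2, F) := MulEquiv.ofBijective (H23.Pgl.iota F) ⟨H23.Pgl.iota_inj, fun a => by
    obtain ⟨g, σ, h | h⟩ := H29.aut_psl_cases le_rfl a
    · have : σ = 1 := RingEquiv.ext fun x => by
        obtain ⟨y, rfl⟩ := (ZMod.ringEquivOfPrime F hp rfl).surjective x
        exact RingHom.congr_fun (RingHom.ext_zmod ((σ : F →+* F).comp (ZMod.ringEquivOfPrime F hp rfl))
          (ZMod.ringEquivOfPrime F hp rfl)) y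
      exact ⟨_, (H23.Pgl.iota_mk g).trans (by rw [h, this, map_one, mul_one])⟩
    · omega⟩
  refine ⟨⟨e.symm⟩, ?_⟩
  have := hp.eq_two_or_odd.resolve_left (by omega)
  rw [← Nat.card_congr e.toEquiv, H28.card_pgl_two, Nat.card_eq_fintype_card,
    ← H9.gcd_mul_card_psl_two, Nat.gcd_eq_left (by omega)]

/-- the conclusion carried through the induction -/
def Concl {G : Type*} [Group G] (A B : Subgroup G) : Prop :=
  (∃ (F : Type) (_ : Field F) (_ : Fintype F) (p : ℕ), p.Prime ∧ 3 < p ∧ Fintype.card F = p ∧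
    Nonempty (G ≃* GL (Fin 2) F ⧸ center (GL (Fin 2) F))) ∧
  Nat.card A * Nat.card B = Nat.card G ∧ 2 ∣ Nat.card A ∧ 2 ∣ Nat.card B ∧
  ∀ K : Subgroup G, K.Normal → K ≠ ⊥ →
    K.index ≤ 2 ∧ (⁅K, K⁆ = K → Nat.card (MulAut K) ≤ Nat.card G)

variable {G Ω : Type u} [Group G] [MulAction G Ω] [Finite G] [Finite Ω]

theorem semi (two : ∀ x y x' y' : Ω, x ≠ y → x' ≠ y' → ∃ g : G, g • x = x' ∧ g • y = y')
    (faith : ∀ g : G, (∀ x : Ω, g • x = x) → g = 1) {α β : Ω} (ne : α ≠ β) {x v : G}
    (hx : ∀ c : G, c • α = α → c * x * c⁻¹ ∈ zpowers x) (hv : v ∈ zpowers x) (ha : x • α = α)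
    (hb : v • β = β) : v = 1 := faith v fun y => by
  by_cases c : α = y
  · exact c ▸ zpowers_le.2 (show x ∈ stabilizer G α from ha) hv
  obtain ⟨g, g1, g2⟩ := two y α β α (Ne.symm c) ne.symm
  obtain ⟨i, rfl⟩ := hv
  obtain ⟨k, hk⟩ := hx g g2
  have : (g * x ^ i * g⁻¹) • β = β := by
    rw [← conj_zpow, ← show x ^ k = _ from hk, ← zpow_mul, mul_comm, zpow_mul]
    exact zpow_mem (show x ^ i ∈ stabilizer G β from hb) k
  rwa [← g1, mul_smul, mul_smul, inv_smul_smul, smul_left_cancel_iff] at this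

theorem comm_z {α : Ω} (hZ : IsZGroup (stabilizer G α)) : ∃ d : G, d • α = α ∧
    ⁅stabilizer G α, stabilizer G α⁆ = zpowers d ∧ ∀ v ∈ zpowers d, ∀ c : G, c • α = α →
      c * v * c⁻¹ ∈ zpowers v := by
  have := IsZGroup.isCyclic_commutator (stabilizer G α)
  obtain ⟨d, hd⟩ := (Subgroup.isCyclic_iff_exists_zpowers_eq_top (_root_.commutator (stabilizer G α))).1 this
  have e : ⁅stabilizer G α, stabilizer G α⁆ = zpowers (d : G) := by
    rw [← map_subtype_commutator, ← hd, MonoidHom.map_zpowers]; rfl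
  refine ⟨d, d.2, e, ?_⟩
  rintro _ ⟨i, rfl⟩ c hc
  obtain ⟨k, hk⟩ := (inferInstance : (_root_.commutator (stabilizer G α)).Normal).conj_mem d
    (hd.le (mem_zpowers d)) ⟨c, hc⟩ |> hd.ge
  exact ⟨k, by
    simp only
    rw [← conj_zpow, ← zpow_mul, mul_comm, zpow_mul]
    exact congrArg (· ^ i) (congrArg Subtype.val hk)⟩

theorem hyp_of (two : ∀ x y x' y' : Ω, x ≠ y → x' ≠ y' → ∃ g : G, g • x = x' ∧ g • y = y')
    (faith : ∀ g : G, (∀ x : Ω, g • x = x) → g = 1) (hZ : ∀ α : Ω, IsZGroup (stabilizer G α))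
    (ev : 2 ∣ Nat.card Ω) : Hyp G Ω := ⟨faith, two, fun x y ne => by
  obtain ⟨d, d1, d2, d3⟩ := comm_z (hZ x)
  have := hZ x
  refine isCyclic_of_injective (Abelianization.of.comp (inclusion inf_le_left))
    ((injective_iff_map_eq_one _).2 fun g hg => Subtype.ext
      (semi two faith ne (d3 d (mem_zpowers d)) ?_ d1 g.2.2))
  rw [← d2, ← map_subtype_commutator]
  exact ⟨_, (QuotientGroup.eq_one_iff _).1 hg, rfl⟩, ev⟩

theorem prim (h : Hyp G Ω) (hZ : ∀ α : Ω, IsZGroup (stabilizer G α)) (α : Ω) {a : G}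
    (ha : ∀ x y : Ω, ∃ i : ℤ, a ^ i • x = y) (sr : ∀ g ∈ zpowers a, FP Ω g → g = 1)
    {N : Subgroup G} [N.Normal] (hN : ¬ Group.IsSolvable N)
    (hmin : ∀ M : Subgroup G, M.Normal → M ≤ N → M = ⊥ ∨ M = N) (hC : centralizer (N : Set G) = ⊥) :
    Concl (zpowers a) (stabilizer G α) := by
  classical
  have := Fintype.ofFinite Ω
  have : Nontrivial Ω := Finite.one_lt_card_iff_nontrivial.1
    (Nat.le_of_dvd (Nat.card_pos_iff.2 ⟨⟨α⟩, inferInstance⟩) h.even)
  have := h.trans1
  have nc : ¬ IsMulCommutative N := fun k => hN (Group.isSolvable_of_comm k.is_comm.comm)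
  have inj : Function.Injective (toPermHom G Ω) := (injective_iff_map_eq_one _).2 fun g hg =>
    h.faith g fun x => congrArg (fun σ : Equiv.Perm Ω => σ x) hg
  obtain ⟨hs, tr, x0, x0N, x01, x0a⟩ : IsSimpleGroup N ∧ IsPretransitive N Ω ∧
      ∃ x ∈ N, x ≠ 1 ∧ x • α = α := by
    let e := MonoidHom.ofInjective inj
    have := (inferInstance : N.Normal).map e.toMonoidHom e.surjective
    let e' : N ≃* N.map e.toMonoidHom := e.subgroupMap N
    have mc := map_comap_eq_self_of_surjective (f := e.toMonoidHom) e.surjective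
    rcases S0700.result (toPermHom G Ω).range (is_two_pretransitive_iff.2 fun n1 n2 => by
      obtain ⟨g, hg⟩ := h.two _ _ _ _ n1 n2
      exact ⟨e g, hg⟩) (N.map e.toMonoidHom)
      (fun k => hN (by rw [(map_eq_bot_iff_of_injective _ e.injective).1 k]; infer_instance))
      (fun M hM k => (hmin (M.comap e.toMonoidHom) inferInstance
        ((comap_mono k).trans (comap_map_eq_self_of_injective e.injective N).le)).imp
        (fun k => by rw [← mc M, k, Subgroup.map_bot])
        fun k => by rw [← mc M, k]) with k | ⟨k1, k2⟩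
    · exact (nc ⟨⟨fun x y => e'.injective (by rw [map_mul, map_mul, k.1.is_comm.comm])⟩⟩).elim
    refine ⟨e'.isSimpleGroup, ⟨fun x y => ?_⟩, by_contra fun k => nc ⟨⟨fun x y => ?_⟩⟩⟩
    · obtain ⟨g, hg⟩ := exists_smul_eq (N.map e.toMonoidHom) x y
      obtain ⟨g, rfl⟩ := e'.surjective g
      exact ⟨g, hg⟩
    · push Not at k
      by_cases c : x = 1
      · rw [c, one_mul, mul_one]
      have := (IsPreprimitive.isCoatom_stabilizer_of_isPreprimitive (G := N.map e.toMonoidHom) α).2
        (zpowers (e' x)) (lt_of_le_of_ne (fun g hg => by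
          obtain ⟨g, rfl⟩ := e'.surjective g
          rw [show g = 1 from by_contra fun n => k g g.2 (fun k => n (Subtype.ext k)) hg, map_one]
          exact one_mem _) fun k' => k x x.2 (fun k => c (Subtype.ext k)) (k'.ge (mem_zpowers _)))
      exact e'.injective (by
        rw [map_mul, map_mul]; exact H42.comm_of_mem_zpowers (mem_zpowers _) (this.ge (mem_top _)))
  have : IsPretransitive (zpowers a) Ω := ⟨fun x y => (ha x y).elim fun i k => ⟨⟨_, i, rfl⟩, k⟩⟩
  have oa : orderOf a = Nat.card Ω := by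
    rw [← index_stabilizer_of_transitive (zpowers a) α,
      (eq_bot_iff_forall (stabilizer (zpowers a) α)).2 fun g hg =>
      Subtype.ext (sr g g.2 ⟨α, hg⟩), index_bot, Nat.card_zpowers]
  let χ := Equiv.Perm.sign.comp (toPermHom G Ω)
  have mv : ∀ x : Ω, a • x ≠ x := fun x k => by
    rw [sr a (mem_zpowers a) ⟨x, k⟩, orderOf_one] at oa
    exact absurd (oa ▸ h.even) (by decide)
  have χa : χ a = -1 := by
    have : (toPermHom G Ω a).IsCycle := ⟨α, mv α, fun y _ => (ha α y).imp fun i k => by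
      rw [← map_zpow]; exact k⟩
    refine this.sign.trans ?_
    rw [show (toPermHom G Ω a).support = Finset.univ from Finset.eq_univ_of_forall fun x =>
      Equiv.Perm.mem_support.2 (mv x), Finset.card_univ, ← Nat.card_eq_fintype_card,
      (even_iff_two_dvd.2 h.even).neg_one_pow]
  have χN : N ≤ χ.ker := fun g hg => by
    rcases (inferInstance : (χ.comp N.subtype).ker.Normal).eq_bot_or_eq_top with k | k
    · exact (nc ⟨⟨fun x y => (MonoidHom.ker_eq_bot_iff _).1 k (by rw [map_mul, map_mul, mul_comm])⟩⟩).elim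
    · exact k.ge (mem_top (⟨g, hg⟩ : N))
  obtain ⟨s, o, ho, he⟩ := Nat.exists_eq_two_pow_mul_odd (Nat.card_pos (α := Ω)).ne'
  have oa' : orderOf (a ^ o) = 2 ^ s := H42.orderOf_pow_of_eq_mul ho.pos.ne' (by rw [oa, he, mul_comm])
  have sr' : ∀ g ∈ zpowers (a ^ o), FP Ω g → g = 1 := fun g hg =>
    sr g (zpowers_le.2 (pow_mem (mem_zpowers a) o) hg)
  obtain ⟨T⟩ : Nonempty (Sylow 2 N) := inferInstance
  obtain ⟨P, hP⟩ := (T.2.map N.subtype).exists_le_sylow
  obtain ⟨y, yP, cy⟩ := h.index_two oa' he ho sr' α P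
  obtain ⟨c, hc⟩ := conj_into P (pg_z (oa' ▸ pow_orderOf_eq_one (a ^ o)))
  have lt : (T : Subgroup N).map N.subtype < P := lt_of_le_of_ne hP fun k => by
    have := χN (map_subtype_le _ (k.ge hc))
    rw [MonoidHom.mem_ker, map_mul, map_mul, map_inv, mul_inv_cancel_comm, map_pow, χa,
      ho.neg_one_pow] at this
    exact absurd this (by decide)
  obtain ⟨n, ⟨eT⟩⟩ := dih hs nc N.subtype N.subtype_injective T P.2 yP cy lt
  have κ : Function.Injective (MulAut.conjNormal : G →* MulAut N) :=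
    (injective_iff_map_eq_one _).2 fun g hg => mem_bot.1 (hC ▸ mem_centralizer_iff.2 fun x hx =>
      (mul_inv_eq_iff_eq_mul.1 (congrArg (fun σ : MulAut N => (σ ⟨x, hx⟩ : G)) hg)).symm)
  obtain ⟨F, _, _, h1, h2, ⟨e⟩⟩ | ⟨⟨e⟩⟩ := (H22.gw_simple hs nc T eT).2
  swap
  · exfalso
    have c1 := card_syl T (n := 3) (o := 315) (by
      rw [Nat.card_congr e.toEquiv, nat_card_alternatingGroup]; simp [Nat.factorial]) (by decide)
    have c2 : Nat.card ((T : Subgroup N).map N.subtype) < Nat.card P :=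
      lt_of_not_ge fun k => lt.ne (eq_of_le_of_card_ge lt.le k)
    rw [card_map_of_injective N.subtype_injective, c1] at c2
    obtain ⟨j, hj⟩ := P.2 ⟨y, yP⟩
    obtain ⟨i, -, hi⟩ := (Nat.dvd_prime_pow Nat.prime_two).1
      (orderOf_dvd_of_pow_eq_one (show y ^ 2 ^ j = 1 from congrArg Subtype.val hj))
    let σ := (MulEquiv.ofBijective _ (S2119.result 7 (by omega) (by omega))).symm
      (MulAut.congr e (MulAut.conjNormal y))
    have : orderOf σ ∣ 420 := by
      rw [← Equiv.Perm.lcm_cycleType, Multiset.lcm_dvd]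
      intro k hk
      have := Equiv.Perm.two_le_of_mem_cycleType hk
      have := (Equiv.Perm.le_card_support_of_mem_cycleType hk).trans (Finset.card_le_univ _)
      rw [Fintype.card_fin] at this
      interval_cases k <;> norm_num
    rw [MulEquiv.orderOf_eq, MulEquiv.orderOf_eq, orderOf_injective _ κ, hi] at this
    rw [hi] at cy
    have : 3 ≤ i := by
      by_contra! k
      have := Nat.pow_le_pow_right two_pos (show i ≤ 2 by omega)
      omega
    exact absurd ((pow_dvd_pow 2 this).trans ‹_›) (by decide)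
  obtain ⟨d, d1, d2, d3⟩ := comm_z (hZ α)
  obtain ⟨x, xN, x1, xa, hx⟩ : ∃ x ∈ N, x ≠ 1 ∧ x • α = α ∧
      ∀ c : G, c • α = α → c * x * c⁻¹ ∈ zpowers x := by
    by_cases k : ∀ c : G, c • α = α → c * x0 * c⁻¹ * x0⁻¹ = 1
    · exact ⟨x0, x0N, x01, x0a, fun c hc => by
        rw [mul_inv_eq_one.1 (k c hc)]; exact mem_zpowers x0⟩
    push Not at k
    obtain ⟨c, c1, c2⟩ := k
    have := d2.le (commutator_mem_commutator (show c ∈ stabilizer G α from c1)
      (show x0 ∈ stabilizer G α from x0a))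
    exact ⟨_, mul_mem (Normal.conj_mem inferInstance _ x0N c) (inv_mem x0N), c2,
      zpowers_le.2 (show d ∈ stabilizer G α from d1) this, d3 _ this⟩
  have := hZ α
  have : IsZGroup (stabilizer N α) := .of_injective (f := (N.subtype.comp (Subgroup.subtype _)).codRestrict
    (stabilizer G α) fun g => g.2) fun a b k =>
      Subtype.ext (Subtype.ext (congrArg (fun g : stabilizer G α => (g : G)) k))
  have hp := psl_prime h1 h2 e α (x := ⟨x, xN⟩) (fun k => x1 (congrArg Subtype.val k))
    (fun g => ⟨fun ⟨i, k⟩ => by_contra fun n => (by simpa using x1 : (g : G) * x * (g : G)⁻¹ ≠ 1)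
      (semi h.two h.faith (Ne.symm n) hx ⟨i, congrArg Subtype.val k⟩ xa (by
        change _ • (g : G) • α = (g : G) • α
        rw [mul_smul, mul_smul, inv_smul_smul, xa])),
      fun k => (hx g k).imp fun i k => Subtype.ext k⟩)
    fun t t2 t1 ta y => by
      by_cases c : α = y
      · exact ⟨t, t2, t1, ta, c ▸ ta⟩
      obtain ⟨β, ne, hβ⟩ := h.second (pg_z (u := (t : G)) (i := 1)
        (congrArg Subtype.val ((pow_one 2).symm ▸ (sq t).trans t2))) (zpowers_le.2 ta)
      obtain ⟨g, g1, g2⟩ := h.two α β α y ne c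
      refine ⟨MulAut.conjNormal g t, by rw [← map_mul, t2, map_one], by simpa using t1, ?_, ?_⟩
      · change (g * t * g⁻¹) • α = α
        rw [mul_smul, mul_smul, inv_smul_eq_iff.2 g1.symm, show (t : G) • α = α from ta, g1]
      · change (g * t * g⁻¹) • y = y
        rw [mul_smul, mul_smul, inv_smul_eq_iff.2 g2.symm, show (t : G) • β = β from
          hβ (mem_zpowers _), g2]
  obtain ⟨⟨e'⟩, c1⟩ := aut_iso hp h2
  rw [← Nat.card_congr (MulAut.congr e).toEquiv, ← Nat.card_congr e.toEquiv] at c1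
  have c2 := Nat.card_le_card_of_injective _ κ
  have c3 := N.index_mul_card
  have i2 : N.index = 2 := by
    have : N.index ≤ 2 := Nat.le_of_mul_le_mul_right (by omega) (Nat.card_pos (α := N))
    have : N.index ≠ 0 := FiniteIndex.index_ne_zero
    have : N.index ≠ 1 := fun k => absurd (χa.symm.trans (χN ((index_eq_one.1 k).ge (mem_top a))))
      (by decide)
    omega
  rw [i2, ← c1] at c3
  have cG := (stabilizer G α).index_mul_card
  rw [index_stabilizer_of_transitive, ← oa] at cG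
  refine ⟨⟨F, _, _, _, hp, h2, rfl, ⟨((MulEquiv.ofBijective _
    ((Nat.bijective_iff_injective_and_card _).2 ⟨κ, c3.symm⟩)).trans (MulAut.congr e)).trans e'⟩⟩,
    by rwa [Nat.card_zpowers], by rw [Nat.card_zpowers, oa]; exact h.even, ?_, fun K hK k => ?_⟩
  · by_contra k
    obtain ⟨c', hc'⟩ := conj_into P (pg_z (oa' ▸ pow_orderOf_eq_one (a ^ o)))
    have cP := card_syl P (n := s) (o := o * Nat.card (stabilizer G α)) (by rw [← cG, oa, he, mul_assoc])
      (ho.mul (Nat.odd_iff.2 (by omega)))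
    have : zpowers (c' * a ^ o * c'⁻¹) = P := eq_of_le_of_card_ge (zpowers_le.2 hc') (by
      rw [cP, Nat.card_zpowers, ← oa']; exact ((MulAut.conj c').orderOf_eq _).ge)
    have : IsCyclic T := isCyclic_of_injective ((inclusion (hP.trans this.ge)).comp
      ((T : Subgroup N).equivMapOfInjective _ N.subtype_injective).toMonoidHom)
      ((inclusion_injective (hP.trans this.ge)).comp (MulEquiv.injective _))
    obtain ⟨M, hM, m1, m2⟩ := H23.exists_compl_of_cyclic this
    rcases hM.eq_bot_or_eq_top with rfl | rfl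
    · exact hN (have := (m2.of_equiv QuotientGroup.quotientBot).isNilpotent; inferInstance)
    · exact hN (S0205.result (by rwa [card_top] at m1))
  · have NK : N ≤ K := inf_eq_left.1 ((hmin (N ⊓ K) inferInstance inf_le_left).resolve_left fun e =>
      k (le_bot_iff.1 (hC ▸ fun g hg => mem_centralizer_iff.2 fun n hn =>
        (commute_of_normal_of_disjoint N K inferInstance hK (disjoint_iff.2 e) n g hn hg).eq)))
    refine ⟨i2 ▸ Nat.le_of_dvd (by omega) (index_dvd_of_le NK), fun k => ?_⟩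
    obtain rfl : K = N := le_antisymm (k.ge.trans (commutator_le.2 fun g _ g' _ => by
      simp [commutatorElement_def, mul_mem_iff_of_index_two i2]; tauto)) NK
    exact c3.le

end Cfsg.Agent.H89CZ
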