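import Cfsg.Agent.H89.Real
import Cfsg.Agent.H6.BrauerPerm

/-! Real characters and real classes; counting linear characters. -/

set_option autoImplicit false
set_option linter.style.haveILetI false
set_option linter.unusedSectionVars false

namespace Cfsg.Agent.H89

open Cfsg Cfsg.Agent.H5 Subgroup
open Cfsg.Agent.H6 (fsIndicator)
open Cfsg.Agent.H88 (conjIrr conjIrr_apply conjIrr_conjIrr conjIrr_eq_iff trivIrr)
open scoped ComplexConjugate

variable {G N Y : Type*} [Group G] [Group N] [Group Y]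

theorem finsum_eq_mlt [Finite Y] (j : Y →* G) (χ : IrrCharacter G) (θ : IrrCharacter Y) :
    (Nat.card Y : ℂ)⁻¹ * ∑ᶠ y, (χ : G → ℂ) (j y) * conj ((θ : Y → ℂ) y) =
      mlt j (χ : G → ℂ) (θ : Y → ℂ) := by
  letI : Fintype Y := Fintype.ofFinite _
  rw [finsum_eq_sum_of_fintype, ← mlt_irr]; rfl

theorem finsum_ne_zero_iff [Finite Y] (j : Y →* G) (χ : IrrCharacter G) (θ : IrrCharacter Y) :
    ∑ᶠ y, (χ : G → ℂ) (j y) * conj ((θ : Y → ℂ) y) ≠ 0 ↔ mlt j (χ : G → ℂ) (θ : Y → ℂ) ≠ 0 := by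
  letI : Fintype Y := Fintype.ofFinite _
  rw [← Nat.cast_ne_zero (R := ℂ), ← finsum_eq_mlt, mul_ne_zero_iff,
    and_iff_right (inv_ne_zero natCard_ne_zero)]

theorem finsum_eq_fsIndicator [Fintype G] (χ : G → ℂ) :
    (Nat.card G : ℂ)⁻¹ * ∑ᶠ g, χ (g * g) = fsIndicator χ := by
  rw [finsum_eq_sum_of_fintype, H6.fsIndicator_def]

theorem conj_pow_of_odd {t g : G} (h : t * g * t⁻¹ = g⁻¹) {n : ℕ} (hn : Odd n) :
    t ^ n * g * (t ^ n)⁻¹ = g⁻¹ := by
  obtain ⟨k, rfl⟩ := hn
  have h2 : Commute (t ^ 2) g := by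
    have : t * g⁻¹ * t⁻¹ = g := by
      calc _ = (t * g * t⁻¹)⁻¹ := by group
        _ = g := by rw [h, inv_inv]
    calc t ^ 2 * g = t * (t * g * t⁻¹) * t⁻¹ * t ^ 2 := by rw [sq]; group
      _ = _ := by rw [h, this]
  calc _ = t * ((t ^ 2) ^ k * g) * ((t ^ 2) ^ k)⁻¹ * t⁻¹ := by rw [pow_succ', pow_mul]; group
    _ = _ := by rw [(h2.pow_left k).eq, ← h]; group

/-- Real elements lie in, and are real in, a normal subgroup of odd index. -/
theorem exists_real_of_odd_index (K : Subgroup G) [hK : K.Normal] (hodd : Odd K.index) {g : G}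
    (h : IsConj g g⁻¹) : g ∈ K ∧ ∃ k ∈ K, k * g * k⁻¹ = g⁻¹ := by
  obtain ⟨t, ht⟩ := isConj_iff.1 h
  have h1 := conj_pow_of_odd ht hodd
  have h2 := K.pow_index_mem t
  refine ⟨?_, _, h2, h1⟩
  generalize t ^ K.index = k at h1 h2
  have h3 : g * g = k⁻¹ * (g⁻¹ * k * g⁻¹⁻¹) := by
    calc _ = k⁻¹ * ((k * g * k⁻¹) * k * g) := by group
      _ = _ := by rw [h1, inv_inv]
  obtain ⟨m, hm⟩ := hodd
  have h4 := K.pow_index_mem g
  rw [hm, pow_succ, pow_mul, sq] at h4
  exact (mul_mem_cancel_left (pow_mem (h3 ▸ K.mul_mem (K.inv_mem h2) (hK.conj_mem _ h2 _)) m)).1 h4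

/-- If an automorphism inverts a nontrivial element, it sends a nontrivial irreducible character to
its conjugate. -/
theorem exists_irr_conj_of_inverts [Finite N] (a : N ≃* N) {x : N} (hx : x ≠ 1)
    (h : IsConj (a x) x⁻¹) : ∃ θ : IrrCharacter N, θ ≠ trivIrr N ∧
      ∀ n, (θ : N → ℂ) (a n) = conj ((θ : N → ℂ) n) := by
  have h1 := H6.card_fixed_irr_eq_card_fixed_classes (G := N) (fun n => (a n)⁻¹) fun χ hχ => by
    simpa only [isIrr_apply_inv hχ] using isIrrCharacter_conj (isIrrCharacter_comp_equiv hχ a)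
  have h2 : Nontrivial {C : ConjClasses N // ∀ g : N, ConjClasses.mk g = C → IsConj g (a g)⁻¹} := by
    refine ⟨⟨ConjClasses.mk 1, fun g hg => ?_⟩, ⟨ConjClasses.mk x, fun g hg => ?_⟩, fun e => ?_⟩
    · rw [isConj_one_left.1 (ConjClasses.mk_eq_mk_iff_isConj.1 hg)]; simp
    · obtain ⟨c, rfl⟩ := isConj_iff.1 (ConjClasses.mk_eq_mk_iff_isConj.1 hg).symm
      obtain ⟨d, hd⟩ := isConj_iff.1 h
      refine isConj_iff.2 ⟨a c * d⁻¹ * c⁻¹, ?_⟩
      calc _ = a c * d⁻¹ * (x⁻¹)⁻¹ * d * (a c)⁻¹ := by group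
        _ = _ := by rw [← hd, map_mul, map_mul, map_inv]; group
    · exact hx (isConj_one_right.1 (ConjClasses.mk_eq_mk_iff_isConj.1 (congrArg Subtype.val e)))
  rw [← Finite.one_lt_card_iff_nontrivial, ← h1, Finite.one_lt_card_iff_nontrivial] at h2
  obtain ⟨θ, hθ⟩ := exists_ne (⟨trivIrr N, rfl⟩ :
    {χ : IrrCharacter N // (fun g => (χ : N → ℂ) (a g)⁻¹) = χ})
  refine ⟨θ.1, fun e => hθ (Subtype.ext e), fun n => ?_⟩
  rw [← congrFun θ.2 n, isIrr_apply_inv θ.1.2, Complex.conj_conj]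

theorem card_homTriv_le [Finite G] (K : Subgroup G) : Nat.card (homTriv K) ≤ K.index := by
  have h : homTriv K = homTriv (K ⊔ _root_.commutator G) := by
    ext lam
    exact ⟨fun h k hk => (sup_le (show K ≤ lam.ker from h)
      (Abelianization.commutator_subset_ker lam)) hk, fun h k hk => h k (mem_sup_left hk)⟩
  haveI : (K ⊔ _root_.commutator G).Normal := Normal.of_commutator_le _ le_sup_right
  rw [h]
  exact (Nat.le_of_dvd (Nat.pos_of_ne_zero index_ne_zero_of_finite) (card_homTriv_dvd _)).trans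
    (Nat.le_of_dvd (Nat.pos_of_ne_zero index_ne_zero_of_finite) (index_dvd_of_le le_sup_left))

theorem mlt_hom_mul_both [Finite Y] (j : Y →* G) (lam : G →* ℂˣ) (χ : G → ℂ) (ψ : Y → ℂ) :
    mlt j (fun g => (lam g : ℂ) * χ g) (fun y => (lam (j y) : ℂ) * ψ y) = mlt j χ ψ := by
  letI : Fintype Y := Fintype.ofFinite _
  unfold mlt classInner
  congr 3
  refine Finset.sum_congr rfl fun y _ => ?_
  have := norm_monoidHom (lam.comp j) y
  rw [map_mul, mul_mul_mul_comm, Complex.mul_conj, Complex.normSq_eq_norm_sq]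
  simp_all

theorem cliffData_top [Finite G] {K I : Subgroup G} [hK : K.Normal] (φ : IrrCharacter K)
    (hI : ∀ g : G, g ∈ I ↔ ∀ n n' : K, (n' : G) = g * n * g⁻¹ → (φ : K → ℂ) n' = (φ : K → ℂ) n)
    (hKI : K ≤ I) : CliffData (inclusion hKI) I.subtype (φ : K → ℂ) where
  jN_inj := inclusion_injective _
  jT_inj := I.subtype_injective
  normal := by rwa [subtype_comp_inclusion, range_subtype]
  mem_range g := by rw [range_subtype, hI]; rfl

theorem mlt_eq_one_of_res [Finite Y] (j : Y →* G) {χ : G → ℂ} {θ : IrrCharacter Y}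
    (h : ∀ y, χ (j y) = (θ : Y → ℂ) y) : mlt j χ (θ : Y → ℂ) = 1 := by
  letI : Fintype Y := Fintype.ofFinite _
  apply mlt_eq_of
  rw [funext h, classInner_irr_self θ.2, Nat.cast_one]

theorem hom_eq_one_of_mul_eq [Finite G] [Finite N] (ι : N →* G) (hι : Function.Injective ι)
    (hn : ι.range.Normal) {η : G → ℂ} (hη : IsCharacter G η)
    (hirr : IsIrrCharacter N fun n => η (ι n)) (lam : G →* ℂˣ) (h1 : ∀ n, lam (ι n) = 1)
    (h : (fun g => (lam g : ℂ) * η g) = η) : lam = 1 := MonoidHom.ext fun x => by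
  letI : Fintype N := Fintype.ofFinite _
  have h2 := sum_coset_mul_conj_self ι hι hn hη hirr x
  obtain ⟨n, -, hn⟩ := Finset.exists_ne_zero_of_sum_ne_zero
    (right_ne_zero_of_mul (h2.trans_ne one_ne_zero))
  have h3 := congrFun h (ι n * x)
  rw [mul_eq_right₀ (left_ne_zero_of_mul hn), map_mul, h1, one_mul] at h3
  exact Units.ext h3

/-- The stabiliser of an induced extension under multiplication by linear characters is small. -/
theorem card_le_index_mul [Finite G] {K I : Subgroup G} [hK : K.Normal] (φ : IrrCharacter K)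
    (hI : ∀ g : G, g ∈ I ↔ ∀ n n' : K, (n' : G) = g * n * g⁻¹ → (φ : K → ℂ) n' = (φ : K → ℂ) n)
    (hKI : K ≤ I) (hKG : K ≤ _root_.commutator G) {ψ : IrrCharacter I}
    (hψ : ∀ n : K, (ψ : I → ℂ) (inclusion hKI n) = (φ : K → ℂ) n) {χ : IrrCharacter G}
    (hχ : mlt I.subtype (χ : G → ℂ) (ψ : I → ℂ) ≠ 0) (p : (G →* ℂˣ) → Prop)
    (q : IrrCharacter G → Prop) (h : ∀ lam, p lam → q (mulPerm G lam χ)) :
    Nat.card {lam // p lam} ≤ I.index * Nat.card {χ // q χ} := by
  classical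
  have D := cliffData_top φ hI hKI
  have htriv : ∀ (lam : G →* ℂˣ) (n : K), lam n = 1 := fun lam n =>
    Abelianization.commutator_subset_ker lam (hKG n.2)
  have hst : ∀ lam, mulPerm G lam χ = χ → lam ∈ homTriv I := fun lam e => by
    have h1 : ∀ n : K, (mulPerm I (lam.comp I.subtype) ψ : I → ℂ) (inclusion hKI n) =
        (φ : K → ℂ) n := fun n => by
      rw [mulPerm_apply, hψ, show lam.comp I.subtype (inclusion hKI n) = 1 from htriv lam n]; simp
    have h2 : mulPerm I (lam.comp I.subtype) ψ = ψ := D.unique_down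
      (by rw [mlt_eq_one_of_res _ h1]; exact one_ne_zero)
      (by rw [mlt_eq_one_of_res _ hψ]; exact one_ne_zero) (χ := χ) (by
        rw [← mlt_hom_mul_both I.subtype lam,
          show (fun g => (lam g : ℂ) * (χ : G → ℂ) g) = χ from congrArg Subtype.val e] at hχ
        exact hχ) hχ
    letI : Fintype K := Fintype.ofFinite _
    have hirr : IsIrrCharacter K fun n => (ψ : I → ℂ) (inclusion hKI n) := by
      rw [funext hψ]; exact φ.2
    have := hom_eq_one_of_mul_eq (inclusion hKI) (inclusion_injective _)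
      (normal_range_inclusion hKI (by rw [normalizer_eq_top]; exact le_top))
      (isCharacter_of_isIrr ψ.2) hirr (lam.comp I.subtype) (htriv lam)
      (congrArg Subtype.val h2)
    exact fun k hk => DFunLike.congr_fun this ⟨k, hk⟩
  letI : Fintype {lam // p lam} := Fintype.ofFinite _
  letI : Fintype {χ // q χ} := Fintype.ofFinite _
  let F : {lam // p lam} → {χ // q χ} := fun lam => ⟨_, h lam.1 lam.2⟩
  rw [Nat.card_eq_fintype_card, Nat.card_eq_fintype_card]
  refine Finset.card_le_mul_card_image_of_maps_to (f := F) (fun _ _ => Finset.mem_univ _) _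
    fun y _ => ?_
  rcases (Finset.univ.filter fun x => F x = y).eq_empty_or_nonempty with h0 | ⟨l₀, h0⟩
  · simp [h0]
  refine le_trans ?_ (card_homTriv_le I)
  rw [← Nat.card_eq_finsetCard]
  refine Nat.card_le_card_of_injective (fun l => ⟨l₀.1⁻¹ * l.1.1, hst _ ?_⟩) fun a b e => ?_
  · rw [map_mul, (mulPerm G).map_inv, Equiv.Perm.mul_apply, Equiv.Perm.inv_eq_iff_eq]
    exact congrArg Subtype.val ((Finset.mem_filter.1 l.2).2.trans (Finset.mem_filter.1 h0).2.symm)
  · exact Subtype.ext (Subtype.ext (mul_left_cancel (congrArg Subtype.val e)))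

theorem fsIndicator_mulPerm [Fintype G] {lam : G →* ℂˣ} (h : ∀ g, lam (g * g) = 1)
    (χ : IrrCharacter G) : fsIndicator (mulPerm G lam χ : G → ℂ) = fsIndicator (χ : G → ℂ) := by
  simp [H6.fsIndicator_def, mulPerm_apply, h, -map_mul]

theorem charDegree_mulPerm [Finite G] (lam : G →* ℂˣ) (χ : IrrCharacter G) :
    charDegree (mulPerm G lam χ : G → ℂ) = charDegree (χ : G → ℂ) := by
  simp [charDegree, mulPerm_apply]

theorem hom_sq_eq_one_of_fsIndicator [Fintype G] {lam : G →* ℂˣ}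
    (h : fsIndicator (fun g => (lam g : ℂ)) = 1) (g : G) : lam (g * g) = 1 := by
  have h1 := (conjIrr_eq_iff _).1 (conjIrr_eq_of_fsIndicator
    (χ := ⟨_, isIrrCharacter_monoidHom lam⟩) (h.trans_ne one_ne_zero)) g
  have h2 := Complex.mul_conj (lam g : ℂ)
  rw [Complex.conj_eq_iff_im.2 h1, Complex.normSq_eq_norm_sq, norm_monoidHom] at h2
  exact Units.ext (by simpa using h2)

theorem card_linear_eq [Finite G] (q : (G → ℂ) → Prop) :
    Nat.card {χ : IrrCharacter G // charDegree (χ : G → ℂ) = 1 ∧ q χ} =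
      Nat.card {lam : G →* ℂˣ // q fun g => (lam g : ℂ)} := by
  refine (Nat.card_congr (Equiv.ofBijective (fun lam => ⟨⟨_, isIrrCharacter_monoidHom lam.1⟩,
    by simp [charDegree], lam.2⟩) ⟨fun a b e => ?_, fun χ => ?_⟩)).symm
  · exact Subtype.ext (MonoidHom.ext fun g => Units.ext
      (congrFun (congrArg (fun x => x.1.1) e) g))
  · obtain ⟨lam, e⟩ := exists_monoidHom_of_degree_one (isCharacter_of_isIrr χ.1.2) (by
      rw [← H32.cast_charDegree_irr, χ.2.1, Nat.cast_one])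
    exact ⟨⟨lam, e ▸ χ.2.2⟩, Subtype.ext (Subtype.ext e.symm)⟩

theorem CliffData.charDegree_eq {T : Type*} [Group T] [Finite G] [Finite T] [Finite N]
    {jN : N →* T} {jT : T →* G} {θ : IrrCharacter N} (D : CliffData jN jT θ)
    {ψ : IrrCharacter T} (h : mlt jN (ψ : T → ℂ) (θ : N → ℂ) ≠ 0) {χ : IrrCharacter G}
    (h1 : mlt jT (χ : G → ℂ) (ψ : T → ℂ) ≠ 0) :
    charDegree (χ : G → ℂ) = jT.range.index * charDegree (ψ : T → ℂ) := by
  apply H32.charDegree_eq_of_eq
  rw [D.degree_eq h h1, Nat.cast_mul, H32.cast_charDegree_irr]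

/-- The character induced from a real Clifford correspondent over a real character is real, with the
same indicator. -/
theorem CliffData.real {T : Type*} [Group T] [Fintype G] [Fintype T] [Finite N]
    {jN : N →* T} {jT : T →* G} {θ : IrrCharacter N} (D : CliffData jN jT θ)
    {ψ : IrrCharacter T} (h : mlt jN (ψ : T → ℂ) (θ : N → ℂ) ≠ 0) {χ : IrrCharacter G}
    (h1 : mlt jT (χ : G → ℂ) (ψ : T → ℂ) ≠ 0) (hψ : conjIrr ψ = ψ) :
    conjIrr χ = χ ∧ fsIndicator (χ : G → ℂ) = fsIndicator (ψ : T → ℂ) := by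
  have h2 : conjIrr χ = χ := D.unique_up h (by rwa [← mlt_conjIrr, hψ] at h1) h1
  exact ⟨h2, fsIndicator_eq_of_odd jT h2 hψ (by rw [D.mlt_eq_one h h1]; exact odd_one)⟩

end Cfsg.Agent.H89
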