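import Cfsg.Agent.H6.Monomial
import Cfsg.Agent.H7.Galois
import Cfsg.Agent.H88.Deg2
import Cfsg.Agent.H1.Frattini

/-! Orders of `p`-groups with a faithful character of given degree and field of values. -/

set_option autoImplicit false
set_option linter.style.haveILetI false
set_option linter.unusedSectionVars false

namespace Cfsg.Agent.H89

open Cfsg Cfsg.Agent.H5 Cfsg.Agent.H6 Subgroup MulAction

universe u

/-- The number of Galois conjugates of a complex valued function. -/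
noncomputable def gd {X : Type*} (χ : X → ℂ) : ℕ := (stabilizer (RingAut ℂ) χ).index

theorem ringAut_smul_apply {X : Type*} (τ : RingAut ℂ) (χ : X → ℂ) (x : X) :
    (τ • χ) x = τ (χ x) := rfl

theorem gd_eq_ncard {X : Type*} (χ : X → ℂ) : gd χ = (orbit (RingAut ℂ) χ).ncard :=
  index_stabilizer _ _

theorem finrank_adjoin_range_eq_gd {X : Type*} [Finite X] {χ : X → ℂ}
    (h : ∀ x, IsIntegral ℚ (χ x)) :
    Module.finrank ℚ (IntermediateField.adjoin ℚ (Set.range χ)) = gd χ := by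
  set K := IntermediateField.adjoin ℚ (Set.range χ) with hK
  haveI : FiniteDimensional ℚ K := IntermediateField.finiteDimensional_adjoin
    (by rintro _ ⟨x, rfl⟩; exact h x)
  have hm : ∀ x, χ x ∈ K := fun x => IntermediateField.subset_adjoin _ _ ⟨x, rfl⟩
  let F : (K →ₐ[ℚ] ℂ) → (X → ℂ) := fun σ x => σ ⟨χ x, hm x⟩
  have hF : Function.Injective F := fun σ σ' e => by
    refine IntermediateField.adjoin_algHom_ext ℚ ?_
    rintro _ ⟨x, rfl⟩
    exact congrFun e x
  have hR : Set.range F = orbit (RingAut ℂ) χ := by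
    ext φ
    constructor
    · rintro ⟨σ, rfl⟩
      obtain ⟨α, hα⟩ := Field.exists_primitive_element ℚ K
      have h1 : Polynomial.aeval (σ α) (minpoly ℚ (α : ℂ)) = 0 := by
        rw [← IntermediateField.minpoly_eq, Polynomial.aeval_algHom_apply]
        exact (congrArg σ (minpoly.aeval ℚ α)).trans (map_zero σ)
      have hαi : IsAlgebraic ℚ (α : ℂ) :=
        (IntermediateField.isAlgebraic_iff).1 (Algebra.IsAlgebraic.isAlgebraic α)
      obtain ⟨τ, hτ, -⟩ := H7.exists_ringEquiv_of_aeval_minpoly hαi h1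
      have e : (τ.toRingHom.toRatAlgHom.comp K.val) = σ := by
        refine (Field.primitive_element_iff_algHom_eq_of_eval' ℚ ℂ (fun _ => IsAlgClosed.splits _)
          α).1 hα ?_
        exact hτ
      refine ⟨τ, ?_⟩
      funext x
      simp only [F, ← e]
      rfl
    · rintro ⟨τ, rfl⟩
      exact ⟨(τ : ℂ ≃+* ℂ).toRingHom.toRatAlgHom.comp K.val, rfl⟩
  rw [gd_eq_ncard, ← hR, Set.ncard_range_of_injective hF, Nat.card_eq_fintype_card, AlgHom.card]

theorem gd_hom {P : Type*} [Group P] [Finite P] (lam : P →* ℂˣ) :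
    gd (fun g => (lam g : ℂ)) = Nat.totient lam.ker.index := by
  haveI : Finite lam.range := Finite.of_surjective _ lam.rangeRestrict_surjective
  haveI : IsCyclic lam.range := isCyclic_subgroup_units _
  obtain ⟨⟨_, g, rfl⟩, hg⟩ := IsCyclic.exists_generator (α := lam.range)
  have hn : orderOf (lam g) = lam.ker.index := by
    rw [index_ker, ← orderOf_eq_card_of_forall_mem_zpowers hg, ← Subgroup.orderOf_coe]
  have hn0 : lam.ker.index ≠ 0 := index_ne_zero_of_finite
  have hprim : IsPrimitiveRoot (lam g : ℂ) lam.ker.index := by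
    rw [IsPrimitiveRoot.coe_units_iff, ← hn]
    exact IsPrimitiveRoot.orderOf _
  have e1 : stabilizer (RingAut ℂ) (fun g => (lam g : ℂ)) = stabilizer (RingAut ℂ) (lam g : ℂ) := by
    ext τ
    simp only [mem_stabilizer_iff]
    refine ⟨fun h => congrFun h g, fun h => funext fun x => ?_⟩
    obtain ⟨k, hk⟩ := hg ⟨lam x, x, rfl⟩
    have hk' : lam g ^ k = lam x := congrArg Subtype.val hk
    have h' : τ (lam g : ℂ) = lam g := h
    rw [ringAut_smul_apply, ← hk', Units.val_zpow_eq_zpow_val, map_zpow₀, h']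
  have e2 : orbit (RingAut ℂ) (lam g : ℂ) = primitiveRoots lam.ker.index ℂ := by
    ext z
    rw [Finset.mem_coe, mem_primitiveRoots (Nat.pos_of_ne_zero hn0)]
    constructor
    · rintro ⟨τ, rfl⟩
      exact hprim.map_of_injective (f := (τ : ℂ ≃+* ℂ)) (τ : ℂ ≃+* ℂ).injective
    · intro hz
      haveI : NeZero lam.ker.index := ⟨hn0⟩
      obtain ⟨m, -, hm, rfl⟩ := (hprim.isPrimitiveRoot_iff).1 hz
      obtain ⟨τ, hτ⟩ := H7.exists_ringEquiv_pow hn0 hm
      exact ⟨τ, hτ _ hprim.pow_eq_one⟩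
  rw [gd, e1, index_stabilizer, e2, Set.ncard_coe_finset, hprim.card_primitiveRoots]

section Step

variable {P : Type*} [Group P] [Fintype P] (H : Subgroup P) [hH : H.Normal] [Fintype H]
  {θ : H → ℂ}

theorem inertia_eq_of_isIrr_indFun (hθ : IsIrrCharacter H θ)
    (hχ : IsIrrCharacter P (indFun H θ)) : inertia H θ = H := by
  have h1 := card_mul_classInner_indFun_normal_self H hθ
  rw [classInner_irr_self hχ, mul_one, Nat.cast_inj] at h1
  exact (eq_of_le_of_card_ge (le_inertia H (isClassFunction_of_isIrr hθ)) h1.ge).symm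

omit hH [Fintype H] in
theorem smul_indFun (τ : RingAut ℂ) (θ : H → ℂ) : τ • indFun H θ = indFun H (τ • θ) :=
  (indFun_map_ringHom H θ (τ : ℂ ≃+* ℂ).toRingHom).symm

theorem exists_conjChar_eq_smul (hθ : IsIrrCharacter H θ) (hχ : IsIrrCharacter P (indFun H θ))
    {τ : RingAut ℂ} (hτ : τ • indFun H θ = indFun H θ) : ∃ g, conjChar H g θ = τ • θ := by
  have h1 := card_mul_classInner_indFun_normal H hθ
    (H7.isIrrCharacter_ringEquiv (τ : ℂ ≃+* ℂ) hθ)
  by_contra hne
  have e : indFun H (fun g => (τ : ℂ ≃+* ℂ) (θ g)) = indFun H θ := (smul_indFun H τ θ).symm.trans hτ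
  rw [e, classInner_irr_self hχ, mul_one] at h1
  exact card_ne_zero_complex H (h1.trans (if_neg hne))

omit [Fintype H] in
theorem mem_charKer_indFun (hχ : IsCharacter P (indFun H θ)) (x : H)
    (hx : ∀ g, conjChar H g θ x = θ 1) : (x : P) ∈ charKer hχ := by
  rw [mem_charKer, ← H.coe_one, indFun_normal_coe H hH, indFun_normal_coe H hH]
  congr 1
  refine Finset.sum_congr rfl fun g _ => ?_
  exact (hx g).trans (conjChar_apply_one H g θ).symm

theorem index_charKer_conjChar (hθ : IsCharacter H θ) (g : P) :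
    (charKer (isCharacter_conjChar H hθ g)).index = (charKer hθ).index := by
  rw [← index_comap_of_surjective (charKer hθ) (f := (MulAut.conjNormal g : H ≃* H).toMonoidHom)
    (MulAut.conjNormal g : H ≃* H).surjective]
  congr 1
  ext x
  rw [mem_charKer, mem_comap, mem_charKer, conjChar_apply_one]
  rfl

omit hH [Fintype H] in
theorem index_le_of_forall_mem {L : Subgroup H} {K : Subgroup P} (h : ∀ x ∈ L, (x : P) ∈ K) :
    K.index ≤ L.index * H.index := by
  rw [← index_map_subtype]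
  refine index_antitone ?_
  rintro _ ⟨x, hx, rfl⟩
  exact h x hx

theorem index_charKer_indFun_le (hθ : IsCharacter H θ) (hχ : IsCharacter P (indFun H θ)) :
    (charKer hχ).index ≤ (charKer hθ).index ^ H.index * H.index := by
  letI : Fintype (P ⧸ H) := Fintype.ofFinite _
  refine (index_le_of_forall_mem H
    (L := ⨅ q : P ⧸ H, charKer (isCharacter_conjChar H hθ q.out)) fun x hx => ?_).trans
    (Nat.mul_le_mul_right _ ((index_iInf_le _).trans (le_of_eq ?_)))
  · refine mem_charKer_indFun H hχ x fun g => ?_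
    have h1 := mem_iInf.1 hx (g : P ⧸ H)
    rw [mem_charKer, conjChar_apply_one] at h1
    rw [← h1]
    refine congrFun ((conjChar_eq_iff H).2 (le_inertia H (isClassFunction_of_isCharacter hθ) ?_)) x
    rw [← div_eq_mul_inv, ← QuotientGroup.eq_iff_div_mem, QuotientGroup.out_eq']
  · rw [Finset.prod_congr rfl fun q _ => index_charKer_conjChar H hθ q.out,
      Finset.prod_const, Finset.card_univ, H.index_eq_card, Nat.card_eq_fintype_card]

theorem ncard_range_conjChar (hθ : IsIrrCharacter H θ) (hχ : IsIrrCharacter P (indFun H θ)) :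
    (Set.range fun g => conjChar H g θ).ncard = H.index := by
  have hI := inertia_eq_of_isIrr_indFun H hθ hχ
  have e : (Set.range fun g => conjChar H g θ) =
      Set.range fun q : P ⧸ H => conjChar H q.out θ := by
    refine Set.Subset.antisymm ?_ ?_
    · rintro _ ⟨g, rfl⟩
      refine ⟨g, (conjChar_eq_iff H).2 ?_⟩
      rw [hI, ← div_eq_mul_inv, ← QuotientGroup.eq_iff_div_mem, QuotientGroup.out_eq']
    · rintro _ ⟨q, rfl⟩
      exact ⟨_, rfl⟩
  rw [e, Set.ncard_range_of_injective, index_eq_card]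
  intro q q' h
  have h1 := (conjChar_eq_iff H).1 h
  rwa [hI, ← div_eq_mul_inv, ← QuotientGroup.eq_iff_div_mem, QuotientGroup.out_eq',
    QuotientGroup.out_eq'] at h1

/-- The inductive step: either the field of values does not change, or it grows by the index and
the kernel does not change. -/
theorem gd_step (hM : IsCoatom H) (hθ : IsIrrCharacter H θ)
    (hχ : IsIrrCharacter P (indFun H θ)) :
    gd θ = gd (indFun H θ) ∨ (gd θ = H.index * gd (indFun H θ) ∧
      (charKer (isCharacter_of_isIrr hχ)).index ≤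
        (charKer (isCharacter_of_isIrr hθ)).index * H.index) := by
  have hle : stabilizer (RingAut ℂ) θ ≤ stabilizer (RingAut ℂ) (indFun H θ) := fun τ hτ => by
    rw [mem_stabilizer_iff] at hτ ⊢
    rw [smul_indFun, hτ]
  rcases hle.eq_or_lt with h | h
  · left
    rw [gd, gd, h]
  right
  obtain ⟨τ, hτ, hτ'⟩ := SetLike.exists_of_lt h
  obtain ⟨g, hg⟩ := exists_conjChar_eq_smul H hθ hχ hτ
  let S : Subgroup P :=
    { carrier := {x | ∃ σ ∈ stabilizer (RingAut ℂ) (indFun H θ), conjChar H x θ = σ • θ}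
      one_mem' := ⟨1, one_mem _, by rw [conjChar_one, one_smul]⟩
      mul_mem' := by
        rintro x y ⟨σ, hσ, hx⟩ ⟨σ', hσ', hy⟩
        refine ⟨σ * σ', mul_mem hσ hσ', ?_⟩
        rw [conjChar_mul, hx, mul_smul, ← hy]
        rfl
      inv_mem' := by
        rintro x ⟨σ, hσ, hx⟩
        refine ⟨σ⁻¹, inv_mem hσ, ?_⟩
        rw [eq_inv_smul_iff]
        have : σ • conjChar H x⁻¹ θ = conjChar H x⁻¹ (σ • θ) := rfl
        rw [this, ← hx, conjChar_inv_conjChar] }
  have hS : S = ⊤ := by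
    refine hM.2 S (lt_of_le_of_ne (fun x hx => ⟨1, one_mem _, ?_⟩) fun e => hτ' ?_)
    · rw [conjChar_of_mem H (isClassFunction_of_isIrr hθ) hx, one_smul]
    · have : g ∈ H := e ▸ (⟨τ, hτ, hg⟩ : g ∈ S)
      rw [mem_stabilizer_iff, ← hg, conjChar_of_mem H (isClassFunction_of_isIrr hθ) this]
  have hS' : ∀ x, ∃ σ ∈ stabilizer (RingAut ℂ) (indFun H θ), conjChar H x θ = σ • θ :=
    fun x => (hS ▸ mem_top x : x ∈ S)
  constructor
  · rw [gd, gd, ← relIndex_mul_index hle, ← ncard_range_conjChar H hθ hχ]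
    congr 1
    have e : (stabilizer (RingAut ℂ) θ).subgroupOf (stabilizer (RingAut ℂ) (indFun H θ)) =
        stabilizer (stabilizer (RingAut ℂ) (indFun H θ)) θ := rfl
    rw [relIndex, e, index_stabilizer]
    congr 1
    ext φ
    constructor
    · rintro ⟨σ, rfl⟩
      exact exists_conjChar_eq_smul H hθ hχ σ.2
    · rintro ⟨x, rfl⟩
      obtain ⟨σ, hσ, e⟩ := hS' x
      exact ⟨⟨σ, hσ⟩, e.symm⟩
  · refine index_le_of_forall_mem H fun x hx => mem_charKer_indFun H _ x fun y => ?_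
    obtain ⟨σ, -, e⟩ := hS' y
    rw [mem_charKer] at hx
    rw [e, ringAut_smul_apply, hx, ← ringAut_smul_apply, ← e, conjChar_apply_one]

end Step

theorem exists_coatom_indFun {P : Type*} [Group P] [Fintype P] [Group.IsNilpotent P] {χ : P → ℂ}
    (hχ : IsIrrCharacter P χ) (h1 : χ 1 ≠ 1) :
    ∃ (H : Subgroup P) (θ : H → ℂ), IsCoatom H ∧ IsIrrCharacter H θ ∧ χ = indFun H θ := by
  classical
  obtain ⟨L, lam, rfl⟩ := isMonomialChar_of_isNilpotent hχ
  have hL : L ≠ ⊤ := by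
    rintro rfl
    apply h1
    simp [indFun_apply_one]
  obtain ⟨H, hH, hLH⟩ := (eq_top_or_exists_le_coatom L).resolve_left hL
  have e := indFun_indFun_subgroupOf L H hLH (fun h => (lam h : ℂ))
  have hc : IsCharacter H (indFun (L.subgroupOf H)
      (fun x => (lam ⟨(x : H), mem_subgroupOf.mp x.2⟩ : ℂ))) :=
    isCharacter_indFun _ (isCharacter_comp (isCharacter_monoidHom lam)
      (subgroupOfEquivOfLe hLH).toMonoidHom)
  refine ⟨H, _, hH, ?_, e.symm⟩
  rw [← e] at hχ
  exact H88.isIrr_of_isIrr_indFun H hc hχ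

theorem pbound_aux {p : ℕ} (hp : p.Prime) (c : ℕ) : ∀ (P : Type u) [Group P] [Finite P],
    Nat.card P = c → IsPGroup p P → ∀ {χ : P → ℂ} (hχ : IsIrrCharacter P χ), χ ≠ (fun _ => 1) →
    ∃ t, gd χ = (p - 1) * p ^ t ∧ ∀ a, (charKer (isCharacter_of_isIrr hχ)).index = p ^ a →
      (p - 1) * a + 1 ≤ charDegree χ + (p - 1) * (t + 1) * charDegree χ := by
  induction c using Nat.strong_induction_on with
  | _ c ih =>
  intro P _ _ hc hP χ hχ hne
  haveI := Fact.mk hp
  letI : Fintype P := Fintype.ofFinite _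
  haveI := hP.isNilpotent
  by_cases h1 : χ 1 = 1
  · obtain ⟨lam, rfl⟩ := exists_monoidHom_of_degree_one (isCharacter_of_isIrr hχ) h1
    have e : charKer (isCharacter_of_isIrr hχ) = lam.ker := by
      ext x
      simp [mem_charKer]
    obtain ⟨a, ha⟩ := hP.index lam.ker
    have ha0 : a ≠ 0 := by
      rintro rfl
      rw [pow_zero, index_eq_one] at ha
      apply hne
      funext x
      have : lam x = 1 := (ha ▸ mem_top x : x ∈ lam.ker)
      simp [this]
    obtain ⟨t, rfl⟩ := Nat.exists_eq_succ_of_ne_zero ha0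
    refine ⟨t, by rw [gd_hom, ha, Nat.totient_prime_pow_succ hp, mul_comm], fun a' ha' => ?_⟩
    rw [e, ha] at ha'
    rw [← Nat.pow_right_injective hp.two_le ha', H88.charDegree_monoidHom]
    simp [add_comm]
  obtain ⟨H, θ, hH, hθ, rfl⟩ := exists_coatom_indFun hχ h1
  haveI := H1.normal_of_isCoatom_of_pgroup hP hH
  have hi := H1.index_eq_of_isCoatom_of_pgroup hP hH
  letI : Fintype H := Fintype.ofFinite _
  have hθ1 : θ ≠ fun _ => 1 := by
    rintro rfl
    refine hH.1 ((inertia_eq_of_isIrr_indFun H hθ hχ).symm.trans (eq_top_iff.2 fun x _ => ?_))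
    exact (mem_inertia H).2 rfl
  have hlt : Nat.card H < c := by
    rw [← hc, ← H.card_mul_index, hi]
    exact lt_mul_of_one_lt_right Nat.card_pos hp.one_lt
  obtain ⟨t, ht, hb⟩ := ih _ hlt H rfl (hP.to_subgroup H) hθ hθ1
  obtain ⟨a', ha'⟩ := (hP.to_subgroup H).index (charKer (isCharacter_of_isIrr hθ))
  replace hb := hb a' ha'
  have hd := H88.charDegree_indFun H (isCharacter_of_isIrr hθ)
  have hf := H88.charDegree_pos hθ
  rw [hd, hi]
  generalize charDegree θ = f at hb hf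
  obtain ⟨q, rfl⟩ : ∃ q, p = q + 1 := ⟨p - 1, (Nat.sub_add_cancel hp.pos).symm⟩
  have hq : 1 ≤ q := Nat.le_of_succ_le_succ hp.two_le
  rw [Nat.add_sub_cancel] at ht hb ⊢
  rcases gd_step H hH hθ hχ with h | ⟨h, hk⟩
  · refine ⟨t, h ▸ ht, fun a ha => ?_⟩
    have h2 := index_charKer_indFun_le H (isCharacter_of_isIrr hθ) (isCharacter_of_isIrr hχ)
    rw [ha, ha', hi, ← pow_mul, ← pow_succ, Nat.pow_le_pow_iff_right hp.one_lt] at h2
    nlinarith [Nat.mul_le_mul_left q h2, Nat.mul_le_mul_left (q + 1) hb]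
  · rw [hi, ht] at h
    have ht0 : t ≠ 0 := by
      rintro rfl
      have := Nat.le_of_dvd hq (⟨_, by simpa using h⟩ : q + 1 ∣ q)
      omega
    obtain ⟨s, rfl⟩ := Nat.exists_eq_succ_of_ne_zero ht0
    refine ⟨s, Nat.eq_of_mul_eq_mul_left hp.pos (by rw [← h, pow_succ]; ring), fun a ha => ?_⟩
    rw [ha, ha', hi, ← pow_succ, Nat.pow_le_pow_iff_right hp.one_lt] at hk
    have h3 : q * 1 ≤ q * (q * (s + 1) * f) :=
      Nat.mul_le_mul_left q (Nat.mul_pos (Nat.mul_pos hq s.succ_pos) hf)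
    simp only [Nat.succ_eq_add_one] at hb
    nlinarith [Nat.mul_le_mul_left q hk]

theorem pbound {p : ℕ} (hp : p.Prime) {P : Type*} [Group P] [Finite P] (hP : IsPGroup p P)
    {χ : P → ℂ} (hχ : IsIrrCharacter P χ) (hne : χ ≠ fun _ => 1) :
    ∃ t, gd χ = (p - 1) * p ^ t ∧ ∀ a, (charKer (isCharacter_of_isIrr hχ)).index = p ^ a →
      (p - 1) * a + 1 ≤ charDegree χ + (p - 1) * (t + 1) * charDegree χ :=
  pbound_aux hp _ P rfl hP hχ hne

/-- The bound `∑ ⌊n / ((p - 1) p ^ i)⌋`. -/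
def bnd (p N n : ℕ) : ℕ := ∑ i ∈ Finset.range N, n / ((p - 1) * p ^ i)

theorem bnd_add_le (p N m n : ℕ) : bnd p N m + bnd p N n ≤ bnd p N (m + n) := by
  rw [bnd, bnd, bnd, ← Finset.sum_add_distrib]
  exact Finset.sum_le_sum fun i _ => Nat.div_add_div_le_add_div

theorem bnd_mono (p N : ℕ) {m n : ℕ} (h : m ≤ n) : bnd p N m ≤ bnd p N n :=
  Finset.sum_le_sum fun _ _ => Nat.div_le_div_right h

theorem pow_le_bnd {p : ℕ} (hp : p.Prime) {N k : ℕ} (h : k < N) :
    p ^ (k + 1) ≤ (p - 1) * bnd p N ((p - 1) * p ^ k) + 1 := by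
  have h1 : ∑ i ∈ Finset.range (k + 1), p ^ i ≤ bnd p N ((p - 1) * p ^ k) := by
    rw [← Finset.sum_range_reflect]
    refine le_trans (le_of_eq (Finset.sum_congr rfl fun i hi => ?_))
      (Finset.sum_le_sum_of_subset (Finset.range_subset_range.2 h))
    rw [Nat.mul_div_mul_left _ _ (Nat.sub_pos_of_lt hp.one_lt),
      Nat.pow_div (Nat.lt_succ_iff.1 (Finset.mem_range.1 hi)) hp.pos]
    rfl
  have h3 : (p - 1) * ∑ i ∈ Finset.range (k + 1), p ^ i + 1 = p ^ (k + 1) := by
    have h4 := geom_sum_mul_add (p - 1) (k + 1)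
    rw [Nat.sub_add_cancel hp.one_le] at h4
    rw [mul_comm, h4]
  rw [← h3]
  exact Nat.add_le_add_right (Nat.mul_le_mul_left _ h1) 1

theorem index_charKer_le_bnd {p : ℕ} (hp : p.Prime) {P : Type*} [Group P] [Finite P]
    (hP : IsPGroup p P) {χ : P → ℂ} (hχ : IsIrrCharacter P χ) {N : ℕ}
    (hN : gd χ * charDegree χ < N) :
    (charKer (isCharacter_of_isIrr hχ)).index ≤ p ^ bnd p N (gd χ * charDegree χ) := by
  haveI := Fact.mk hp
  by_cases h1 : χ = fun _ => 1
  · have : charKer (isCharacter_of_isIrr hχ) = ⊤ := eq_top_iff.2 fun x _ => by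
      rw [mem_charKer, h1]
    rw [this, index_top]
    exact Nat.one_le_pow _ _ hp.pos
  obtain ⟨t, ht, hb⟩ := pbound hp hP hχ h1
  obtain ⟨a, ha⟩ := hP.index (charKer (isCharacter_of_isIrr hχ))
  replace hb := hb a ha
  obtain ⟨m, hm⟩ := IsPGroup.iff_card.1 hP
  obtain ⟨s, -, hs⟩ := (Nat.dvd_prime_pow hp).1 (hm ▸ degree_dvd_card hχ
    (H88.charDegree_cast (isCharacter_of_isIrr hχ)).symm)
  rw [ht, hs, mul_assoc, ← pow_add] at hN
  rw [ha, ht, hs, mul_assoc, ← pow_add]
  rw [hs] at hb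
  refine Nat.pow_le_pow_right hp.pos ?_
  have hq : 0 < p - 1 := Nat.sub_pos_of_lt hp.one_lt
  have h2 := pow_le_bnd hp (N := N) (k := t + s)
    (((Nat.lt_pow_self hp.one_lt).trans_le (Nat.le_mul_of_pos_left _ hq)).trans hN)
  have h3 : 1 + (t + 1) * (p - 1) ≤ p ^ (t + 1) := by
    have := one_add_mul_le_pow (a := ((p - 1 : ℕ) : ℤ)) (by omega) (t + 1)
    have e : (1 : ℤ) + (p - 1 : ℕ) = p := by omega
    rw [e] at this
    exact_mod_cast this
  have h4 : p ^ (t + s + 1) = p ^ (t + 1) * p ^ s := by ring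
  refine Nat.le_of_mul_le_mul_left ?_ hq
  nlinarith [Nat.mul_le_mul_right (p ^ s) h3]

theorem index_iInf_le_bnd {p : ℕ} (hp : p.Prime) {P : Type*} [Group P] [Finite P]
    (hP : IsPGroup p P) {N : ℕ} (S : Finset (P → ℂ)) (hS : ∀ φ ∈ S, IsIrrCharacter P φ)
    (hcl : ∀ φ ∈ S, ∀ τ : RingAut ℂ, τ • φ ∈ S) (hN : ∑ φ ∈ S, charDegree φ < N) :
    ∃ K : Subgroup P, (∀ x ∈ K, ∀ φ ∈ S, φ x = φ 1) ∧
      K.index ≤ p ^ bnd p N (∑ φ ∈ S, charDegree φ) := by
  classical
  induction S using Finset.strongInduction with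
  | _ S ih =>
  rcases S.eq_empty_or_nonempty with rfl | ⟨χ, hχ⟩
  · exact ⟨⊤, by simp, by simpa using Nat.one_le_pow _ _ hp.pos⟩
  have hsplit := Finset.sum_filter_add_sum_filter_not S (· ∈ orbit (RingAut ℂ) χ) charDegree
  have hO : ∑ φ ∈ S.filter (· ∈ orbit (RingAut ℂ) χ), charDegree φ = gd χ * charDegree χ := by
    rw [Finset.sum_congr rfl (g := fun _ => charDegree χ), Finset.sum_const, smul_eq_mul,
      gd_eq_ncard, ← Set.ncard_coe_finset]
    · congr 2
      ext φ
      simp only [Finset.coe_filter, Set.mem_ofPred_eq, and_iff_right_iff_imp]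
      rintro ⟨τ, rfl⟩
      exact hcl χ hχ τ
    · intro φ hφ
      obtain ⟨τ, rfl⟩ := (Finset.mem_filter.1 hφ).2
      refine H88.charDegree_congr ?_
      change τ (χ 1) = χ 1
      rw [← H88.charDegree_cast (isCharacter_of_isIrr (hS χ hχ)), map_natCast]
  rw [hO] at hsplit
  obtain ⟨K, hK, hKi⟩ := ih (S.filter (· ∉ orbit (RingAut ℂ) χ))
    (Finset.filter_ssubset.2 ⟨χ, hχ, not_not.2 (mem_orbit_self χ)⟩)
    (fun φ hφ => hS φ (Finset.mem_filter.1 hφ).1)
    (fun φ hφ τ => Finset.mem_filter.2 ⟨hcl φ (Finset.mem_filter.1 hφ).1 τ, fun h =>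
      (Finset.mem_filter.1 hφ).2 (by simpa using mem_orbit_of_mem_orbit τ⁻¹ h)⟩)
    (by omega)
  refine ⟨charKer (isCharacter_of_isIrr (hS χ hχ)) ⊓ K, fun x hx φ hφ => ?_, ?_⟩
  · by_cases h : φ ∈ orbit (RingAut ℂ) χ
    · obtain ⟨τ, rfl⟩ := h
      exact congrArg τ ((mem_charKer _).1 hx.1)
    · exact hK x hx.2 φ (Finset.mem_filter.2 ⟨hφ, h⟩)
  · refine index_inf_le.trans ((Nat.mul_le_mul (index_charKer_le_bnd hp hP (hS χ hχ)
      (N := N) (by omega)) hKi).trans ?_)
    rw [← pow_add, ← hsplit]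
    exact Nat.pow_le_pow_right hp.pos (bnd_add_le _ _ _ _)

/-- The kernel of a rational character of degree `n` of a `p`-group has index at most
`p ^ ∑ ⌊n / ((p - 1) p ^ i)⌋`. -/
theorem index_charKer_le_of_rational {p : ℕ} (hp : p.Prime) {P : Type*} [Group P] [Finite P]
    (hP : IsPGroup p P) {ψ : P → ℂ} (hψ : IsCharacter P ψ)
    (hr : ∀ (τ : ℂ ≃+* ℂ) x, τ (ψ x) = ψ x) {n : ℕ} (hn : charDegree ψ ≤ n) :
    (charKer hψ).index ≤ p ^ bnd p (n + 1) n := by
  classical
  letI : Fintype P := Fintype.ofFinite _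
  let T : Finset (IrrCharacter P) := Finset.univ.filter fun φ => classInner ψ φ ≠ 0
  have hsum : ∑ φ ∈ T.image Subtype.val, charDegree φ ≤ n := by
    obtain ⟨m, hm, hd, -⟩ := H88.exists_nat_mult hψ
    rw [Finset.sum_image Subtype.val_injective.injOn]
    refine le_trans ?_ hn
    rw [hd]
    refine le_trans (Finset.sum_le_sum fun φ hφ => ?_)
      (Finset.sum_le_sum_of_subset (Finset.subset_univ T))
    refine Nat.le_mul_of_pos_left _ (Nat.pos_of_ne_zero fun h0 => ?_)
    exact (Finset.mem_filter.1 hφ).2 (by rw [hm, h0, Nat.cast_zero])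
  obtain ⟨K, hK, hKi⟩ := index_iInf_le_bnd hp hP (N := n + 1) (T.image Subtype.val)
    (fun φ hφ => by
      obtain ⟨φ, -, rfl⟩ := Finset.mem_image.1 hφ
      exact φ.2)
    (fun φ hφ τ => by
      obtain ⟨φ, hφ', rfl⟩ := Finset.mem_image.1 hφ
      refine Finset.mem_image.2 ⟨⟨_, H7.isIrrCharacter_ringEquiv (τ : ℂ ≃+* ℂ) φ.2⟩,
        Finset.mem_filter.2 ⟨Finset.mem_univ _, ?_⟩, rfl⟩
      have h1 := H7.classInner_ringHom (τ : ℂ ≃+* ℂ).toRingHom ψ
        (H7.isGeneralizedCharacter_of_isCharacter' (isCharacter_of_isIrr φ.2))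
      have h2 : (fun g => (τ : ℂ ≃+* ℂ).toRingHom (ψ g)) = ψ := funext (hr τ)
      rw [h2] at h1
      exact fun h0 => (Finset.mem_filter.1 hφ').2
        ((map_eq_zero (τ : ℂ ≃+* ℂ).toRingHom).1 (h1.symm.trans h0)))
    (Nat.lt_succ_of_le hsum)
  refine le_trans (index_antitone fun x hx => ?_)
    (hKi.trans (Nat.pow_le_pow_right hp.pos (bnd_mono _ _ hsum)))
  refine (mem_charKer _).2 (apply_eq_degree_of_forall_constituent hψ fun φ hφ h => ?_)
  exact hK x hx φ (Finset.mem_image.2 ⟨⟨φ, hφ⟩, Finset.mem_filter.2 ⟨Finset.mem_univ _, h⟩, rfl⟩)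

end Cfsg.Agent.H89
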