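import Cfsg.Agent.H89.CharAux
import Cfsg.Agent.H6.FrobSchur

/-! The three standard irreducible characters of a `4`-transitive group. -/

set_option autoImplicit false
set_option linter.style.haveILetI false
set_option linter.unusedSectionVars false

namespace Cfsg.Agent.H89

open Cfsg Cfsg.Agent.H5 MulAction Finset
open scoped ComplexConjugate

variable {G : Type*} [Group G] [Fintype G]

theorem isIrr_sub_of_norm {A B : G → ℂ} (hA : IsCharacter G A) (hB : IsCharacter G B)
    (h : classInner (A - B) (A - B) = 1) (h1 : 0 < ((A - B) 1).re) : IsIrrCharacter G (A - B) := by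
  obtain ⟨β, ε, hε, e⟩ := exists_sign_irr (f := A - B) (fun x y => by
    rw [Pi.sub_apply, Pi.sub_apply, isClassFunction_of_isCharacter hA,
      isClassFunction_of_isCharacter hB]) (fun β => by
    obtain ⟨a, ha⟩ := exists_nat_classInner hA (isCharacter_of_isIrr β.2)
    obtain ⟨b, hb⟩ := exists_nat_classInner hB (isCharacter_of_isIrr β.2)
    exact ⟨a - b, by rw [classInner_sub_left, ha, hb]; simp⟩) h
  obtain ⟨d, -, hd⟩ := exists_pos_nat_degree β.2
  rcases hε with rfl | rfl
  · have : A - B = β := funext fun c => by simpa using e c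
    exact this ▸ β.2
  · rw [e, hd] at h1
    simp at h1
    exact absurd h1 (Nat.cast_nonneg d).not_gt

theorem sum_card_filter_smul_eq {Y : Type*} [Fintype Y] [DecidableEq Y] [Nonempty Y] [MulAction G Y]
    [IsPretransitive G Y] (φ : Y → Y) :
    ∑ g : G, (univ.filter fun y => g • y = φ y).card = Nat.card G := by
  classical
  have h1 : ∀ y : Y, (univ.filter fun g : G => g • y = φ y).card * Fintype.card Y = Nat.card G := by
    intro y
    obtain ⟨g₀, hg₀⟩ := exists_smul_eq G y (φ y)
    rw [← Nat.card_eq_fintype_card, ← index_stabilizer_of_transitive G y,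
      ← (stabilizer G y).card_mul_index, ← Fintype.card_subtype, ← Nat.card_eq_fintype_card]
    congr 1
    refine Nat.card_congr (Equiv.subtypeEquiv (Equiv.mulLeft g₀⁻¹) fun g => ?_)
    rw [mem_stabilizer_iff, Equiv.coe_mulLeft, mul_smul, inv_smul_eq_iff, hg₀]
  simp only [card_filter] at h1 ⊢
  rw [sum_comm]
  refine Nat.eq_of_mul_eq_mul_right (Fintype.card_pos (α := Y)) ?_
  rw [sum_mul, sum_congr rfl fun y _ => h1 y, sum_const, card_univ, smul_eq_mul, mul_comm]

variable {X : Type*} [Fintype X] [DecidableEq X] [MulAction G X]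

/-- Fixed points. -/
def fixS (X : Type*) [Fintype X] [DecidableEq X] [MulAction G X] (g : G) : Finset X :=
  univ.filter fun x => g • x = x

/-- Points in `2`-cycles. -/
def twoS (X : Type*) [Fintype X] [DecidableEq X] [MulAction G X] (g : G) : Finset X :=
  univ.filter fun x => g • x ≠ x ∧ g • g • x = x

theorem mem_fixS {g : G} {x : X} : x ∈ fixS X g ↔ g • x = x := by simp [fixS]

theorem mem_twoS {g : G} {x : X} : x ∈ twoS X g ↔ g • x ≠ x ∧ g • g • x = x := by simp [twoS]

theorem card_fixS_mul_self (g : G) :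
    (fixS X (g * g)).card = (fixS X g).card + (twoS X g).card := by
  rw [← card_filter_add_card_filter_not (s := fixS X (g * g)) fun x => g • x = x]
  congr 2
  · ext x
    simp only [mem_filter, mem_fixS, mul_smul, and_iff_right_iff_imp]
    intro h
    rw [h, h]
  · ext x
    simp only [mem_filter, mem_fixS, mul_smul, mem_twoS, and_comm]

theorem isCharacter_fixS : IsCharacter G fun g => ((fixS X g).card : ℂ) := by
  convert isCharacter_perm (G := G) X using 3 with g
  rw [fixS, ← Fintype.card_subtype, Nat.card_eq_fintype_card]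
  rfl

theorem sum_emb [IsMultiplyPretransitive G X 4] (h4 : 4 ≤ Fintype.card X) {k : ℕ} (hk : k ≤ 4)
    (σ : Equiv.Perm (Fin k)) (N : G → ℂ)
    (hN : ∀ g : G, ((univ.filter fun a : Fin k ↪ X => ∀ i, g • a i = a (σ i)).card : ℂ) = N g) :
    ∑ g : G, N g = Nat.card G := by
  classical
  haveI : IsMultiplyPretransitive G X k :=
    isMultiplyPretransitive_of_le hk (by rwa [Nat.card_eq_fintype_card])
  haveI : Nonempty (Fin k ↪ X) := Function.Embedding.nonempty_of_card_le (by simpa using hk.trans h4)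
  rw [← sum_card_filter_smul_eq (G := G) fun a : Fin k ↪ X => σ.toEmbedding.trans a, Nat.cast_sum]
  refine sum_congr rfl fun g _ => (hN g).symm.trans ?_
  congr 2
  ext a
  simp [Function.Embedding.ext_iff, Function.Embedding.smul_apply]

theorem card_emb_fix (g : G) (k : ℕ) :
    (univ.filter fun a : Fin k ↪ X => ∀ i, g • a i = a ((1 : Equiv.Perm (Fin k)) i)).card =
      (fixS X g).card.descFactorial k := by
  classical
  have h := Fintype.card_embedding_eq (α := Fin k) (β := fixS X g)
  rw [Fintype.card_fin, Fintype.card_coe] at h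
  rw [← h, ← Fintype.card_subtype]
  exact Fintype.card_congr
    { toFun := fun a => a.1.codRestrict (fixS X g : Set X) fun i => mem_fixS.2 (a.2 i)
      invFun := fun b => ⟨b.trans (Function.Embedding.subtype _), fun i => mem_fixS.1 (b i).2⟩
      left_inv := fun _ => rfl
      right_inv := fun _ => rfl }

theorem card_emb_two (g : G) :
    (univ.filter fun a : Fin 2 ↪ X => ∀ i, g • a i = a (Equiv.swap 0 1 i)).card =
      (twoS X g).card := by
  refine card_bij (fun a _ => a 0) (fun a ha => ?_) (fun a ha b hb h => ?_) fun x hx => ?_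
  · have h := (mem_filter.1 ha).2
    have h0 : g • a 0 = a 1 := h 0
    have h1 : g • a 1 = a 0 := h 1
    exact mem_twoS.2 ⟨by simp [h0], by rw [h0, h1]⟩
  · have h0 : g • a 0 = a 1 := (mem_filter.1 ha).2 0
    have h1 : g • b 0 = b 1 := (mem_filter.1 hb).2 0
    ext i
    fin_cases i
    · exact h
    · exact h0.symm.trans ((congrArg (g • ·) h).trans h1)
  · obtain ⟨h1, h2⟩ := mem_twoS.1 hx
    refine ⟨⟨![x, g • x], fun i j => ?_⟩, mem_filter.2 ⟨mem_univ _, fun i => ?_⟩, rfl⟩
    · fin_cases i <;> fin_cases j <;> simp [h1, h1.symm]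
    · fin_cases i
      · rfl
      · exact h2

theorem card_emb_two_one (g : G) :
    (univ.filter fun a : Fin 3 ↪ X => ∀ i, g • a i = a (Equiv.swap 0 1 i)).card =
      (twoS X g).card * (fixS X g).card := by
  rw [← card_product]
  refine card_bij (fun a _ => (a 0, a 2)) (fun a ha => ?_) (fun a ha b hb h => ?_) ?_
  · have h := (mem_filter.1 ha).2
    have h0 : g • a 0 = a 1 := h 0
    have h1 : g • a 1 = a 0 := h 1
    have h2 : g • a 2 = a 2 := h 2
    exact mem_product.2 ⟨mem_twoS.2 ⟨by simp [h0], by rw [h0, h1]⟩, mem_fixS.2 h2⟩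
  · have h0 : g • a 0 = a 1 := (mem_filter.1 ha).2 0
    have h1 : g • b 0 = b 1 := (mem_filter.1 hb).2 0
    obtain ⟨e0, e2⟩ := Prod.ext_iff.1 h
    ext i
    fin_cases i
    · exact e0
    · exact h0.symm.trans ((congrArg (g • ·) e0).trans h1)
    · exact e2
  · rintro ⟨x, y⟩ hx
    obtain ⟨h1, h2⟩ := mem_twoS.1 (mem_product.1 hx).1
    have h3 := mem_fixS.1 (mem_product.1 hx).2
    simp only at h1 h2 h3
    have h4 : x ≠ y := fun e => h1 (e ▸ h3)
    have h5 : g • x ≠ y := fun e => h4 (by rwa [← h3, smul_left_cancel_iff] at e)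
    refine ⟨⟨![x, g • x, y], fun i j => ?_⟩, mem_filter.2 ⟨mem_univ _, fun i => ?_⟩, rfl⟩
    · fin_cases i <;> fin_cases j <;> simp [h1, h1.symm, h4, h4.symm, h5, h5.symm]
    · fin_cases i
      · rfl
      · exact h2
      · exact h3

theorem card_emb_two_one_one (g : G) :
    (univ.filter fun a : Fin 4 ↪ X => ∀ i, g • a i = a (Equiv.swap 0 1 i)).card =
      (twoS X g).card * (fixS X g).offDiag.card := by
  rw [← card_product]
  refine card_bij (fun a _ => (a 0, a 2, a 3)) (fun a ha => ?_) (fun a ha b hb h => ?_) ?_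
  · have h := (mem_filter.1 ha).2
    have h0 : g • a 0 = a 1 := h 0
    have h1 : g • a 1 = a 0 := h 1
    have h2 : g • a 2 = a 2 := h 2
    have h3 : g • a 3 = a 3 := h 3
    exact mem_product.2 ⟨mem_twoS.2 ⟨by simp [h0], by rw [h0, h1]⟩,
      mem_offDiag.2 ⟨mem_fixS.2 h2, mem_fixS.2 h3, by simp⟩⟩
  · have h0 : g • a 0 = a 1 := (mem_filter.1 ha).2 0
    have h1 : g • b 0 = b 1 := (mem_filter.1 hb).2 0
    obtain ⟨e0, e⟩ := Prod.ext_iff.1 h
    obtain ⟨e2, e3⟩ := Prod.ext_iff.1 e
    ext i
    fin_cases i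
    · exact e0
    · exact h0.symm.trans ((congrArg (g • ·) e0).trans h1)
    · exact e2
    · exact e3
  · rintro ⟨x, y, z⟩ hx
    obtain ⟨h1, h2⟩ := mem_twoS.1 (mem_product.1 hx).1
    obtain ⟨h3, h3', h6⟩ := mem_offDiag.1 (mem_product.1 hx).2
    rw [mem_fixS] at h3 h3'
    simp only at h1 h2 h3 h3' h6
    have h4 : x ≠ y := fun e => h1 (e ▸ h3)
    have h5 : g • x ≠ y := fun e => h4 (by rwa [← h3, smul_left_cancel_iff] at e)
    have h4' : x ≠ z := fun e => h1 (e ▸ h3')
    have h5' : g • x ≠ z := fun e => h4' (by rwa [← h3', smul_left_cancel_iff] at e)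
    refine ⟨⟨![x, g • x, y, z], fun i j => ?_⟩, mem_filter.2 ⟨mem_univ _, fun i => ?_⟩, rfl⟩
    · fin_cases i <;> fin_cases j <;>
        simp [h1, h1.symm, h4, h4.symm, h5, h5.symm, h4', h4'.symm, h5', h5'.symm, h6, h6.symm]
    · fin_cases i
      · rfl
      · exact h2
      · exact h3
      · exact h3'

theorem card_emb_two_two (g : G) :
    ((univ.filter fun a : Fin 4 ↪ X => ∀ i, g • a i =
      a ((Equiv.swap 0 1 * Equiv.swap 2 3 : Equiv.Perm (Fin 4)) i)).card : ℂ) =
      (twoS X g).card * ((twoS X g).card - 2) := by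
  have e : (univ.filter fun a : Fin 4 ↪ X => ∀ i, g • a i =
      a ((Equiv.swap 0 1 * Equiv.swap 2 3 : Equiv.Perm (Fin 4)) i)).card =
      ((twoS X g).sigma fun x => ((twoS X g).erase x).erase (g • x)).card := by
    refine card_bij (fun a _ => ⟨a 0, a 2⟩) (fun a ha => ?_) (fun a ha b hb h => ?_) ?_
    · have h := (mem_filter.1 ha).2
      have h0 : g • a 0 = a 1 := h 0
      have h1 : g • a 1 = a 0 := h 1
      have h2 : g • a 2 = a 3 := h 2
      have h3 : g • a 3 = a 2 := h 3
      exact mem_sigma.2 ⟨mem_twoS.2 ⟨by simp [h0], by rw [h0, h1]⟩, mem_erase.2 ⟨by simp [h0],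
        mem_erase.2 ⟨by simp, mem_twoS.2 ⟨by simp [h2], by rw [h2, h3]⟩⟩⟩⟩
    · have h0 : g • a 0 = a 1 := (mem_filter.1 ha).2 0
      have h1 : g • b 0 = b 1 := (mem_filter.1 hb).2 0
      have h2 : g • a 2 = a 3 := (mem_filter.1 ha).2 2
      have h3 : g • b 2 = b 3 := (mem_filter.1 hb).2 2
      have e0 : a 0 = b 0 := congrArg Sigma.fst h
      have e2 : a 2 = b 2 := congrArg (fun s : (_ : X) × X => s.2) h
      ext i
      fin_cases i
      · exact e0
      · exact h0.symm.trans ((congrArg (g • ·) e0).trans h1)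
      · exact e2
      · exact h2.symm.trans ((congrArg (g • ·) e2).trans h3)
    · rintro ⟨x, y⟩ hx
      obtain ⟨h1, h2⟩ := mem_twoS.1 (mem_sigma.1 hx).1
      obtain ⟨h5, h⟩ := mem_erase.1 (mem_sigma.1 hx).2
      obtain ⟨h4, h⟩ := mem_erase.1 h
      obtain ⟨h3, h3'⟩ := mem_twoS.1 h
      simp only at h1 h2 h3 h3' h4 h5
      have h6 : g • y ≠ x := fun e => h5 (by rw [← e, h3'])
      refine ⟨⟨![x, g • x, y, g • y], fun i j => ?_⟩, mem_filter.2 ⟨mem_univ _, fun i => ?_⟩, rfl⟩
      · fin_cases i <;> fin_cases j <;>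
          simp [h1, h1.symm, h4, h4.symm, h5, h5.symm, h3, h3.symm, h6, h6.symm]
      · fin_cases i
        · rfl
        · exact h2
        · rfl
        · exact h3'
  rw [e, card_sigma, Nat.cast_sum, ← nsmul_eq_mul, ← sum_const]
  refine sum_congr rfl fun x hx => ?_
  obtain ⟨h1, h2⟩ := mem_twoS.1 hx
  have h3 : g • x ∈ (twoS X g).erase x :=
    mem_erase.2 ⟨h1, mem_twoS.2 ⟨by rw [h2]; exact h1.symm, by rw [h2]⟩⟩
  rw [← card_erase_add_one hx, ← card_erase_add_one h3]
  push_cast
  ring

theorem classInner_eq_one_of_moments [IsMultiplyPretransitive G X 4] (h4 : 4 ≤ Fintype.card X)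
    {θ : G → ℂ} (c₀ c₁ c₂ c₄ d₀ d₁ d₂ e : ℂ) (hc : c₀ + c₁ + c₂ + c₄ + d₀ + d₁ + d₂ + e = 1)
    (h : ∀ (g : G) (f t : ℕ), (fixS X g).card = f → (twoS X g).card = t →
      θ g * conj (θ g) = c₀ + c₁ * f + c₂ * (f * (f - 1)) +
      c₄ * (f * (f - 1) * (f - 2) * (f - 3)) + d₀ * t + d₁ * (t * f) + d₂ * (t * (f * (f - 1))) +
      e * (t * (t - 2))) : classInner θ θ = 1 := by
  have m1 := sum_emb (G := G) h4 (k := 1) (by omega) 1 (fun g => (fixS X g).card) fun g => by
    rw [card_emb_fix, Nat.descFactorial_one]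
  have m2 := sum_emb (G := G) h4 (k := 2) (by omega) 1
    (fun g => (fixS X g).card * ((fixS X g).card - 1)) fun g => by
    rw [card_emb_fix, ← descPochhammer_eval_eq_descFactorial]
    simp [descPochhammer_succ_eval]
  have m4 := sum_emb (G := G) h4 (k := 4) le_rfl 1
    (fun g => (fixS X g).card * ((fixS X g).card - 1) * ((fixS X g).card - 2) *
      ((fixS X g).card - 3)) fun g => by
    rw [card_emb_fix, ← descPochhammer_eval_eq_descFactorial]
    simp [descPochhammer_succ_eval]
  have n0 := sum_emb (G := G) h4 (k := 2) (by omega) _ (fun g => (twoS X g).card) fun g => by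
    rw [card_emb_two]
  have n1 := sum_emb (G := G) h4 (k := 3) (by omega) _
    (fun g => (twoS X g).card * (fixS X g).card) fun g => by
    rw [card_emb_two_one, Nat.cast_mul]
  have n2 := sum_emb (G := G) h4 (k := 4) le_rfl _
    (fun g => (twoS X g).card * ((fixS X g).card * ((fixS X g).card - 1))) fun g => by
    rw [card_emb_two_one_one, Nat.cast_mul, offDiag_card, Nat.cast_sub (Nat.le_mul_self _)]
    push_cast
    ring
  have n3 := sum_emb (G := G) h4 (k := 4) le_rfl _ _ (card_emb_two_two (X := X))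
  rw [classInner, sum_congr rfl fun g _ => h g _ _ rfl rfl]
  simp only [sum_add_distrib, ← mul_sum]
  rw [m1, m2, m4, n0, n1, n2, n3, sum_const, card_univ, ← Nat.card_eq_fintype_card,
    inv_mul_eq_one₀ natCard_ne_zero, nsmul_eq_mul]
  linear_combination (-(Nat.card G : ℂ)) * hc

theorem card_fixS_one : (fixS X (1 : G)).card = Fintype.card X := by simp [fixS]

theorem card_twoS_one : (twoS X (1 : G)).card = 0 := by simp [twoS]

variable [IsMultiplyPretransitive G X 4] (h4 : 4 ≤ Fintype.card X)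
include h4

theorem isIrr_fix_sub_one : IsIrrCharacter G fun g => ((fixS X g).card : ℂ) - 1 := by
  refine isIrr_sub_of_norm isCharacter_fixS isCharacter_one
    (classInner_eq_one_of_moments h4 1 (-1) 1 0 0 0 0 0 (by ring) fun g f t hf _ => ?_) ?_
  · simp only [Pi.sub_apply, hf, map_sub, map_natCast, map_one]
    ring
  · have : (4 : ℝ) ≤ Fintype.card X := by exact_mod_cast h4
    simp only [Pi.sub_apply, card_fixS_one, Complex.sub_re, Complex.natCast_re, Complex.one_re]
    linarith

theorem isIrr_sym_two : IsIrrCharacter G fun g =>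
    (((fixS X g).card : ℂ) * ((fixS X g).card - 3) + (twoS X g).card) / 2 := by
  have e : (fun g => (((fixS X g).card : ℂ) * ((fixS X g).card - 3) + (twoS X g).card) / 2) =
      (fun g : G => (((fixS X g).card : ℂ) ^ 2 + (fixS X (g * g)).card) / 2) -
        (2 : ℕ) • fun g => ((fixS X g).card : ℂ) := by
    funext g
    rw [Pi.sub_apply, Pi.smul_apply, card_fixS_mul_self, nsmul_eq_mul]
    push_cast
    ring
  rw [e]
  refine isIrr_sub_of_norm (H6.isCharacter_symSq isCharacter_fixS)
    (isCharacter_nsmul isCharacter_fixS 2) ?_ ?_ <;> rw [← e]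
  · refine classInner_eq_one_of_moments h4 0 1 (-1 / 2) (1 / 4) (1 / 2) (-1) (1 / 2) (1 / 4)
      (by ring) fun g f t hf ht => ?_
    simp only [hf, ht, map_sub, map_natCast, map_add, map_mul, map_div₀, map_ofNat]
    ring
  · have : (4 : ℝ) ≤ Fintype.card X := by exact_mod_cast h4
    have e : ((Fintype.card X : ℂ) * (Fintype.card X - 3) + (0 : ℕ)) / 2 =
      (((Fintype.card X : ℝ) * (Fintype.card X - 3)) / 2 : ℝ) := by push_cast; ring
    simp only [card_fixS_one, card_twoS_one, e, Complex.ofReal_re]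
    nlinarith

theorem isIrr_alt_two : IsIrrCharacter G fun g =>
    ((((fixS X g).card : ℂ) - 1) * ((fixS X g).card - 2) - (twoS X g).card) / 2 := by
  have e : (fun g => ((((fixS X g).card : ℂ) - 1) * ((fixS X g).card - 2) - (twoS X g).card) / 2) =
      ((fun g : G => (((fixS X g).card : ℂ) ^ 2 - (fixS X (g * g)).card) / 2) + fun _ => 1) -
        fun g => ((fixS X g).card : ℂ) := by
    funext g
    simp only [Pi.sub_apply, card_fixS_mul_self, Pi.add_apply]
    push_cast
    ring
  rw [e]
  refine isIrr_sub_of_norm (isCharacter_add (H6.isCharacter_altSq isCharacter_fixS) isCharacter_one)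
    isCharacter_fixS ?_ ?_ <;> rw [← e]
  · refine classInner_eq_one_of_moments h4 1 (-1) (1 / 2) (1 / 4) (-1 / 2) 1 (-1 / 2) (1 / 4)
      (by ring) fun g f t hf ht => ?_
    simp only [hf, ht, map_sub, map_natCast, map_one, map_mul, map_div₀, map_ofNat]
    ring
  · have : (4 : ℝ) ≤ Fintype.card X := by exact_mod_cast h4
    have e : (((Fintype.card X : ℂ) - 1) * (Fintype.card X - 2) - (0 : ℕ)) / 2 =
      ((((Fintype.card X : ℝ) - 1) * (Fintype.card X - 2)) / 2 : ℝ) := by push_cast; ring
    simp only [card_fixS_one, card_twoS_one, e, Complex.ofReal_re]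
    nlinarith

end Cfsg.Agent.H89
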