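import Cfsg.Agent.H89.Real3
import Cfsg.Agent.H19.Basic
import Cfsg.Agent.S0160

/-! Real characters of `G` and of a Sylow normaliser. -/

set_option autoImplicit false
set_option linter.style.haveILetI false
set_option linter.unusedSectionVars false

namespace Cfsg.Agent.H89

open Cfsg Cfsg.Agent.H5 Subgroup
open Cfsg.Agent.H6 (fsIndicator)
open Cfsg.Agent.H88 (conjIrr conjIrr_apply conjIrr_conjIrr conjIrr_eq_iff trivIrr)
open scoped ComplexConjugate commutatorElement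

variable {G : Type*} [Group G] [Finite G]

theorem RCorr.real_iff {C : Type*} [Group C] [Finite C] {p : ℕ} {j : C →* G}
    {I : IrrCharacter G → Prop} {J : IrrCharacter C → Prop} (h : RCorr p j I J)
    {χ : IrrCharacter G} {β : IrrCharacter C} (hχ : I χ) (hχ' : I (conjIrr χ)) (hβ : J β)
    (hβ' : J (conjIrr β)) (hm : (mlt j (χ : G → ℂ) (β : C → ℂ) : ZMod p) ≠ 0) :
    conjIrr χ = χ ↔ conjIrr β = β :=
  ⟨fun e => h.unique hχ hβ' hβ (by rwa [← mlt_conjIrr, e] at hm) hm,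
    fun e => h.inj _ _ hχ' hχ β hβ (by rwa [← mlt_conjIrr, e] at hm) hm⟩

theorem SInv.conjIrr {S K : Subgroup G} {θ : IrrCharacter K} (h : SInv S K θ) :
    SInv S K (conjIrr θ) := fun s hs g g' e => congrArg conj (h s hs g g' e)

theorem SInv.irrAct {P N K : Subgroup G} (hN : N ≤ normalizer (P : Set G))
    (hNK : N ≤ normalizer (K : Set G)) {θ : IrrCharacter K} (h : SInv P K θ) (n : N) :
    SInv P K (irrAct N K hNK n θ) := fun s hs g g' e => by
  rw [irrAct_apply, irrAct_apply]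
  refine h ((n : G)⁻¹ * s * (n : G)⁻¹⁻¹) ((mem_normalizer_iff.1 (hN (N.inv_mem n.2)) s).1 hs) _ _ ?_
  rw [cj_symm_coe, cj_symm_coe, e]; group

theorem exists_mem_normalizer_mul {p : ℕ} [Fact p.Prime] (P : Sylow p G) (T : Subgroup G) (g : G)
    (h1 : (P : Subgroup G) ≤ T) (h2 : ∀ x ∈ (P : Subgroup G), g * x * g⁻¹ ∈ T) :
    ∃ t ∈ T, t * g ∈ normalizer ((P : Subgroup G) : Set G) := by
  have h3 : ↑(g • P) ≤ T := by
    rintro - ⟨z, hz, rfl⟩
    exact h2 z hz
  obtain ⟨h, hh⟩ := MulAction.exists_smul_eq T ((g • P).subtype h3) (P.subtype h1)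
  simp_rw [Sylow.smul_subtype, Subgroup.smul_def, smul_smul] at hh
  exact ⟨h, h.2, Sylow.smul_eq_iff_mem_normalizer.mp (Sylow.subtype_injective hh)⟩

theorem exists_irrAct_normalizer {p : ℕ} [Fact p.Prime] (P : Sylow p G) {K : Subgroup G}
    [hK : K.Normal] (hNK : normalizer ((P : Subgroup G) : Set G) ≤ normalizer (K : Set G))
    {χ : IrrCharacter G} {θ θ' : IrrCharacter K} (hθ : SInv P K θ) (hθ' : SInv P K θ')
    (h : mlt K.subtype (χ : G → ℂ) (θ : K → ℂ) ≠ 0)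
    (h' : mlt K.subtype (χ : G → ℂ) (θ' : K → ℂ) ≠ 0) : ∃ n, irrAct _ K hNK n θ = θ' := by
  obtain ⟨g, a, ha, e⟩ := exists_conj_of_mlt K.subtype K.subtype_injective (by rwa [range_subtype])
    h h'
  have hn : ∀ x, x ∈ normalizer (K : Set G) := fun x => by rw [normalizer_eq_top]; exact mem_top x
  obtain ⟨t, ht, h1⟩ := exists_mem_normalizer_mul P (stab K θ) g
    (fun x hx => ⟨hn x, hθ x hx⟩) fun x hx => ⟨hn _, fun k k' e' => by
      obtain ⟨k, rfl⟩ := a.surjective k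
      obtain ⟨k', rfl⟩ := a.surjective k'
      rw [← e, ← e]
      refine hθ' x hx _ _ (mul_left_cancel (a := g) (mul_right_cancel (b := g⁻¹) ?_))
      rw [← show (a k' : G) = g * k' * g⁻¹ from ha k', e', show (a k : G) = g * k * g⁻¹ from ha k]
      group⟩
  refine ⟨⟨_, inv_mem h1⟩, Subtype.ext (funext fun k => ?_)⟩
  rw [e, ← ht.2 (a k) (cj K t (hn t) (a k)) rfl]
  apply irrAct_apply_of_eq
  rw [cj_coe, show (a k : G) = _ from ha k]
  simp only [coe_subtype]; group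

theorem exists_sInv_under_of_not_dvd' {p : ℕ} [Fact p.Prime] {P K C : Subgroup G}
    (hP : IsPGroup p P) (hPK : P ≤ normalizer (K : Set G)) (hPC : P ≤ normalizer (C : Set G))
    (hCK : C ≤ K) {χ : IrrCharacter K} (hχ : SInv P K χ) (h : ¬ p ∣ charDegree (χ : K → ℂ)) :
    ∃ ξ : IrrCharacter C, mlt (inclusion hCK) (χ : K → ℂ) (ξ : C → ℂ) ≠ 0 ∧ SInv P C ξ ∧
      ¬ p ∣ charDegree (ξ : C → ℂ) := by
  classical
  rw [← ZMod.natCast_eq_zero_iff, charDegree_congr_sum hP hPK hPC hCK hχ] at h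
  obtain ⟨ξ, h1, h2⟩ := Finset.exists_ne_zero_of_sum_ne_zero h
  exact ⟨ξ, ne_zero_of_cast_ne_zero (left_ne_zero_of_mul h2), (Finset.mem_filter.1 h1).2,
    fun h3 => right_ne_zero_of_mul h2 ((ZMod.natCast_eq_zero_iff _ _).2 h3)⟩

theorem sum_mlt_of_real {N : Type*} [Group N] [Finite N] (ι : N →* G) (hι : Function.Injective ι)
    (hn : ι.range.Normal) (hodd : Odd ι.range.index) {χ : IrrCharacter G} (hχ : conjIrr χ = χ)
    {θ : IrrCharacter N} (h : mlt ι (χ : G → ℂ) (θ : N → ℂ) ≠ 0) (p : ℕ)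
    (J : IrrCharacter N → Prop) [DecidablePred J] :
    ∑ ξ ∈ Finset.univ.filter J, (mlt ι (χ : G → ℂ) (ξ : N → ℂ) : ZMod p) * charDegree (ξ : N → ℂ) =
      Nat.card {ξ // J ξ ∧ mlt ι (χ : G → ℂ) (ξ : N → ℂ) ≠ 0} * charDegree (θ : N → ℂ) := by
  classical
  letI : Fintype G := Fintype.ofFinite _
  letI : Fintype N := Fintype.ofFinite _
  obtain ⟨χ', h1, h2, -⟩ := exists_real_over ι hι hn hodd (real_of_under ι hι hn hodd hχ h)
  rw [eq_of_real_over ι hι hn hodd h1 hχ (h2.trans_ne one_ne_zero) h] at h2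
  rw [Nat.card_eq_fintype_card, Fintype.card_subtype, Finset.card_filter, Nat.cast_sum,
    Finset.sum_mul, Finset.sum_filter]
  refine Finset.sum_congr rfl fun ξ _ => ?_
  by_cases h3 : mlt ι (χ : G → ℂ) (ξ : N → ℂ) = 0
  · simp [h3]
  · obtain ⟨g, a, -, e⟩ := exists_conj_of_mlt ι hι hn h h3
    rw [mlt_eq_of_under ι hι hn h h3, h2, show charDegree ξ.1 = charDegree θ.1 by
      rw [charDegree, charDegree, e, map_one]]
    simp

theorem exists_real_bijection {p : ℕ} [hp : Fact p.Prime] (K : Subgroup G) [hK : K.Normal]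
    (hodd : Odd K.index) (P : Sylow p G)
    (hQ : K ≤ normalizer ((K ⊓ P : Subgroup G) : Set G))
    (hreal : ∀ χ : IrrCharacter G, (∀ g, ((χ : G → ℂ) g).im = 0) → ¬ p ∣ charDegree (χ : G → ℂ)) :
    ∃ f : {χ : IrrCharacter G // ∀ g : G, ((χ : G → ℂ) g).im = 0} →
      {ξ : IrrCharacter (normalizer ((P : Subgroup G) : Set G)) //
        (∀ n, (ξ.1 n).im = 0) ∧ ¬ p ∣ charDegree ξ.1}, Function.Bijective f ∧ ∀ χ,
      ((charDegree (f χ).1.1 : ZMod p) = (charDegree χ.1.1 : ZMod p) ∨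
        (charDegree (f χ).1.1 : ZMod p) = -(charDegree χ.1.1 : ZMod p)) := by
  classical
  letI : Fintype G := Fintype.ofFinite _
  set N := normalizer ((P : Subgroup G) : Set G) with hN
  letI : Fintype N := Fintype.ofFinite _
  letI : Fintype K := Fintype.ofFinite _
  set C := K ⊓ N with hC
  letI : Fintype C := Fintype.ofFinite _
  have hn : ∀ X : Subgroup G, X ≤ normalizer (K : Set G) := fun X => by
    rw [normalizer_eq_top]; exact le_top
  have hPN : (P : Subgroup G) ≤ N := le_normalizer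
  have hCN : C ≤ N := inf_le_right
  have hNC : N ≤ normalizer (C : Set G) := le_normalizer_inf (hn N) le_normalizer
  have hfix : IsFixMod P K (K ⊓ P) C := fun g => and_congr_right fun hg =>
    ⟨fun h s hs => ⟨K.mul_mem (hK.conj_mem g hg s) (K.inv_mem hg), by
      have := mul_mem hs ((mem_normalizer_iff.1 h _).1 (inv_mem hs))
      rwa [← mul_assoc, ← mul_assoc] at this⟩,
    fun h => le_normalizer_of_conj (S := zpowers g) (fun s hs x hx => by
      have : g ∈ normalizer ((P : Subgroup G) : Set G) := mem_normalizer_fintype fun y hy => by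
        have := mul_mem hy (mem_inf.1 (h y⁻¹ (inv_mem hy))).2
        rwa [inv_inv, mul_assoc, mul_assoc, mul_inv_cancel_left, ← mul_assoc] at this
      exact (mem_normalizer_iff.1 ((zpowers_le).2 this hs) x).1 hx) (mem_zpowers g)⟩
  have rc := rcorr_pgroup P.2 (hn P) (le_normalizer_inf (hn P) le_normalizer) inf_le_left hQ hfix
    (fun h => P.not_dvd_index (h.trans (by
      rw [inf_relIndex_left]; exact H19.relIndex_dvd_index_of_normal_right _ _)))
  have hKn : K.subtype.range.Normal := by rwa [range_subtype]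
  have hKo : Odd K.subtype.range.index := by rwa [range_subtype]
  have hCn := normal_range_inclusion hCN hNC
  have hCo : Odd (inclusion hCN).range.index := by
    rw [inclusion_range, ← relIndex, inf_relIndex_right]
    exact hodd.of_dvd_nat (relIndex_dvd_index_of_normal K N)
  have hKi := K.subtype_injective
  have hCi := inclusion_injective hCN
  let Rel : IrrCharacter G → IrrCharacter N → Prop := fun χ ξ =>
    ∃ (θ : IrrCharacter K) (η : IrrCharacter C), SInv P K θ.1 ∧ SInv P C η.1 ∧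
      mlt K.subtype χ.1 θ.1 ≠ 0 ∧ (mlt (inclusion hfix.le) θ.1 η.1 : ZMod p) ≠ 0 ∧
      mlt (inclusion hCN) ξ.1 η.1 ≠ 0
  have KE : ∀ χ ξ, Rel χ ξ → ∀ (θ : IrrCharacter K) (η : IrrCharacter C), SInv P K θ.1 →
      SInv P C η.1 → (mlt (inclusion hfix.le) θ.1 η.1 : ZMod p) ≠ 0 →
      (mlt K.subtype χ.1 θ.1 ≠ 0 ↔ mlt (inclusion hCN) ξ.1 η.1 ≠ 0) := by
    rintro χ ξ ⟨θ, η, h1, h2, h3, h4, h5⟩ θ' η' h1' h2' h4'
    constructor
    · intro h
      obtain ⟨n, rfl⟩ := exists_irrAct_normalizer P (hn N) h1 h1' h3 h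
      rw [rc.unique h1' h2' (h2.irrAct le_rfl hNC n) h4' (by rwa [mlt_irrAct]), mlt_irrAct_right]
      exact h5
    · intro h
      obtain ⟨n, rfl⟩ := exists_irrAct_eq_of_mlt hNC hCN h5 h
      rw [rc.inj _ _ h1' (h1.irrAct le_rfl (hn N) n) _ h2' h4' (by rwa [mlt_irrAct]),
        mlt_subtype_irrAct]
      exact h3
  have hdeg : ∀ χ ξ, conjIrr χ = χ → conjIrr ξ = ξ → Rel χ ξ →
      (charDegree ξ.1 : ZMod p) = charDegree χ.1 ∨ (charDegree ξ.1 : ZMod p) = -charDegree χ.1 := by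
    intro χ ξ hχ hξ h
    have h6 := (rc.restrict hp.out (KE χ ξ h)).card_eq hp.out
    obtain ⟨θ, η, h1, h2, h3, h4, h5⟩ := h
    obtain ⟨η₀, ε, h7, hε, h8, h9⟩ := rc.ex θ h1
    obtain rfl : η = η₀ := by_contra fun e => h4 (h9 η h2 e)
    rw [charDegree_congr_sum' P.2 (hn P) χ, sum_mlt_of_real _ hKi hKn hKo hχ h3,
      charDegree_congr_sum P.2 (hPN.trans le_normalizer) (hPN.trans hNC) hCN
        ((sInv_self (isClassFunction_of_isIrr ξ.2)).mono hPN), sum_mlt_of_real _ hCi hCn hCo hξ h5,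
      h6, charDegree_congr P.2 (hn P) (hPN.trans hNC) hfix.le h1 h2 h9, h8]
    rcases hε with rfl | rfl <;> simp
  have tot : ∀ χ : {χ : IrrCharacter G // ∀ g : G, ((χ : G → ℂ) g).im = 0},
      ∃ ξ : {ξ : IrrCharacter N // (∀ n, (ξ.1 n).im = 0) ∧ ¬ p ∣ charDegree ξ.1}, Rel χ ξ := by
    rintro ⟨χ, hχ⟩
    have hχ' := (conjIrr_eq_iff χ).2 hχ
    obtain ⟨θ, h1, h2, -⟩ := exists_sInv_under_of_not_dvd P.2 (hn P) (hreal χ hχ)
    obtain ⟨η, h3, h4⟩ := rc.exists_ne_zero hp.out θ h2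
    obtain ⟨ξ, h5, h6, -⟩ := exists_real_over _ hCi hCn hCo ((rc.real_iff h2 h2.conjIrr h3
      h3.conjIrr h4).1 (real_of_under _ hKi hKn hKo hχ' h1))
    have h7 : Rel χ ξ := ⟨θ, η, h2, h3, h1, h4, h6.trans_ne one_ne_zero⟩
    refine ⟨⟨ξ, (conjIrr_eq_iff ξ).1 h5, fun h => hreal χ hχ ?_⟩, h7⟩
    rw [← ZMod.natCast_eq_zero_iff] at h ⊢
    rcases hdeg χ ξ hχ' h5 h7 with e | e
    · rw [← e, h]
    · rw [← neg_eq_zero, ← e, h]
  choose f hf using tot
  refine ⟨f, ⟨fun χ χ' e => ?_, fun ξ => ?_⟩, fun χ => hdeg _ _ ((conjIrr_eq_iff _).2 χ.2)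
    ((conjIrr_eq_iff _).2 (f χ).2.1) (hf χ)⟩
  · obtain ⟨θ, η, h1, h2, h3, h4, h5⟩ := hf χ
    exact Subtype.ext (eq_of_real_over _ hKi hKn hKo ((conjIrr_eq_iff _).2 χ.2)
      ((conjIrr_eq_iff _).2 χ'.2) h3 ((KE _ _ (hf χ') θ η h1 h2 h4).2 (e ▸ h5)))
  · have hξ := (conjIrr_eq_iff _).2 ξ.2.1
    obtain ⟨η, h1, h2, -⟩ := exists_sInv_under_of_not_dvd' P.2 (hPN.trans le_normalizer)
      (hPN.trans hNC) hCN ((sInv_self (isClassFunction_of_isIrr ξ.1.2)).mono hPN) ξ.2.2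
    obtain ⟨θ, h3, h4⟩ := rc.surj η h2
    obtain ⟨χ, h5, h6, -⟩ := exists_real_over _ hKi hKn hKo ((rc.real_iff h3 h3.conjIrr h2
      h2.conjIrr h4).2 (real_of_under _ hCi hCn hCo hξ h1))
    refine ⟨⟨χ, (conjIrr_eq_iff χ).1 h5⟩, Subtype.ext (eq_of_real_over _ hCi hCn hCo
      ((conjIrr_eq_iff _).2 (f _).2.1) hξ ?_ h1)⟩
    exact (KE _ _ (hf ⟨χ, (conjIrr_eq_iff χ).1 h5⟩) θ η h3 h2 h4).1 (h6.trans_ne one_ne_zero)

theorem exists_conj_mem_normalizer_of_real {p : ℕ} [hp : Fact p.Prime] (K : Subgroup G)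
    [hK : K.Normal] (hodd : Odd K.index) (P : Sylow p G) (hKP : K ⊓ P = ⊥)
    (hreal : ∀ χ : IrrCharacter G, (∀ g, ((χ : G → ℂ) g).im = 0) → ¬ p ∣ charDegree (χ : G → ℂ))
    {x : G} (hx : IsConj x x⁻¹) : ∃ y ∈ normalizer ((P : Subgroup G) : Set G), IsConj x y := by
  set N := normalizer ((P : Subgroup G) : Set G) with hN
  obtain ⟨f, hf, -⟩ := exists_real_bijection K hodd P (by rw [hKP, normalizer_eq_top]; exact le_top)
    hreal
  have h1 : Nat.card {C : ConjClasses G // ∀ g : G, ConjClasses.mk g = C → IsConj g g⁻¹} ≤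
      Nat.card {C : ConjClasses N // ∀ g : N, ConjClasses.mk g = C → IsConj g g⁻¹} := by
    rw [← S0160.result, ← S0160.result]
    exact Nat.card_le_card_of_injective (fun χ => ⟨(f χ).1, (f χ).2.1⟩) fun a b e =>
      hf.1 (Subtype.ext (congrArg (fun x => x.1) e))
  have real_conj : ∀ {g c : G}, IsConj g g⁻¹ → IsConj (c * g * c⁻¹) (c * g * c⁻¹)⁻¹ := fun {g c} h => by
    obtain ⟨d, hd⟩ := isConj_iff.1 h
    refine isConj_iff.2 ⟨c * d * c⁻¹, ?_⟩
    calc _ = c * (d * g * d⁻¹) * c⁻¹ := by group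
      _ = _ := by rw [hd]; group
  have hcent : ∀ y : N, IsConj y y⁻¹ → (y : G) ∈ centralizer ((P : Subgroup G) : Set G) :=
    fun y hy => mem_centralizer_iff.2 fun s hs => by
      have h2 : (y : G) ∈ K := (exists_real_of_odd_index (K.subgroupOf N)
        (hodd.of_dvd_nat (relIndex_dvd_index_of_normal K N)) hy).1
      have : s * ((y : G) * s⁻¹ * (y : G)⁻¹) ∈ K ⊓ P := ⟨by
        simpa [mul_assoc] using K.mul_mem (hK.conj_mem y h2 s) (K.inv_mem h2),
        mul_mem hs ((mem_normalizer_iff.1 y.2 _).1 (inv_mem hs))⟩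
      rw [hKP, mem_bot] at this
      rw [← one_mul ((y : G) * s), ← this]; group
  let F : {C : ConjClasses N // ∀ g : N, ConjClasses.mk g = C → IsConj g g⁻¹} →
      {C : ConjClasses G // ∀ g : G, ConjClasses.mk g = C → IsConj g g⁻¹} := fun C =>
    ⟨ConjClasses.map N.subtype C.1, by
      obtain ⟨C, hC⟩ := C
      obtain ⟨y, rfl⟩ := ConjClasses.mk_surjective C
      intro g hg
      obtain ⟨c, rfl⟩ := isConj_iff.1 (ConjClasses.mk_eq_mk_iff_isConj.1 hg).symm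
      exact real_conj (N.subtype.map_isConj (hC y rfl))⟩
  have hF : Function.Injective F := by
    rintro ⟨C, hC⟩ ⟨C', hC'⟩ e
    obtain ⟨y, rfl⟩ := ConjClasses.mk_surjective C
    obtain ⟨y', rfl⟩ := ConjClasses.mk_surjective C'
    obtain ⟨c, hc⟩ := isConj_iff.1 (ConjClasses.mk_eq_mk_iff_isConj.1 (congrArg Subtype.val e))
    change c * y * c⁻¹ = y' at hc
    obtain ⟨n, hn, h2⟩ := P.conj_eq_normalizer_conj_of_mem_centralizer y c⁻¹ (hcent y (hC y rfl))
      (by rw [inv_inv, hc]; exact hcent y' (hC' y' rfl))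
    rw [inv_inv, hc] at h2
    exact Subtype.ext (ConjClasses.mk_eq_mk_iff_isConj.2
      (isConj_iff.2 ⟨⟨n, hn⟩⁻¹, Subtype.ext (by simpa using h2.symm)⟩))
  obtain ⟨⟨C, hC⟩, e⟩ := (hF.bijective_of_nat_card_le h1).2 ⟨ConjClasses.mk x, fun g hg => by
    obtain ⟨c, rfl⟩ := isConj_iff.1 (ConjClasses.mk_eq_mk_iff_isConj.1 hg).symm
    exact real_conj hx⟩
  obtain ⟨y, rfl⟩ := ConjClasses.mk_surjective C
  exact ⟨y, y.2, (ConjClasses.mk_eq_mk_iff_isConj.1 (congrArg Subtype.val e)).symm⟩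

theorem odd_index_closure_two : Odd (closure {g : G | ∃ k : ℕ, orderOf g = 2 ^ k}).index := by
  obtain ⟨S⟩ : Nonempty (Sylow 2 G) := inferInstance
  refine Nat.not_even_iff_odd.1 fun h => S.not_dvd_index (h.two_dvd.trans
    (index_dvd_of_le fun g hg => subset_closure ?_))
  obtain ⟨k, hk⟩ := IsPGroup.iff_orderOf.1 S.2 ⟨g, hg⟩
  exact ⟨k, by rwa [← orderOf_coe] at hk⟩

theorem exists_cent_conj {Γ : Type*} [Group Γ] [Finite Γ] {G S : Subgroup Γ} (hS : S ≤ normalizer (G : Set Γ))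
    (hcop : (Nat.card G).Coprime (Nat.card S)) (hsolv : Group.IsSolvable S ∨ Group.IsSolvable G)
    {c c' y} (hc : c ∈ centralizer (S : Set Γ)) (hc' : c' ∈ centralizer (S : Set Γ)) (hy : y ∈ G)
    (h : y * c * y⁻¹ = c') : ∃ d ∈ G ⊓ centralizer (S : Set Γ), d * c * d⁻¹ = c' := by
  obtain ⟨d, hd, hd'⟩ := H1.glauberman_conj S G hS hcop.symm hsolv (centralizer {c})
    (fun s hs => mem_centralizer_singleton_iff.2 (mem_centralizer_iff.1 hc s hs)) y hy
    (fun s hs => by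
      rw [mem_centralizer_singleton_iff]
      have hc := mem_centralizer_iff.1 hc' s hs
      rw [← h] at hc
      calc y⁻¹ * s * y * c = y⁻¹ * (s * (y * c * y⁻¹)) * y := by group
        _ = _ := by rw [hc]; group)
  rw [mem_centralizer_singleton_iff] at hd'
  refine ⟨d, hd, ?_⟩
  rw [← h]
  calc d * c * d⁻¹ = y * (y⁻¹ * d * c) * d⁻¹ := by group
    _ = _ := by rw [hd']; group

theorem exists_conj_mem_cent {Γ : Type*} [Group Γ] [Finite Γ] {G S : Subgroup Γ} (hS : S ≤ normalizer (G : Set Γ))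
    (hcop : (Nat.card G).Coprime (Nat.card S)) (hsolv : Group.IsSolvable S ∨ Group.IsSolvable G)
    {g} (h : ∀ s ∈ S, ∃ y ∈ G, y * g * y⁻¹ = s * g * s⁻¹) :
    ∃ n ∈ G, n * g * n⁻¹ ∈ centralizer (S : Set Γ) := by
  obtain ⟨n, hn, hn'⟩ := H1.glauberman_fixed S G hS hcop.symm hsolv (centralizer {g})
    (fun s hs => by
      obtain ⟨y, hy, hy'⟩ := h s hs
      refine ⟨y, hy, mem_centralizer_singleton_iff.2 ?_⟩
      calc y⁻¹ * s * g = y⁻¹ * (s * g * s⁻¹) * s := by group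
        _ = _ := by rw [← hy']; group)
  refine ⟨n, hn, mem_centralizer_iff.2 fun s hs => ?_⟩
  have := mem_centralizer_singleton_iff.1 (hn' s hs)
  calc s * (n * g * n⁻¹) = n * (n⁻¹ * s * n * g) * n⁻¹ := by group
    _ = _ := by rw [this]; group

end Cfsg.Agent.H89
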