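import Cfsg.Agent.H42.Index2

/-! Doubly transitive groups of even degree with cyclic two-point stabilisers: basics. -/

set_option autoImplicit false
set_option linter.unusedSectionVars false

namespace Cfsg.Agent.H89CZ

open Subgroup MulAction

structure Hyp (G Ω : Type*) [Group G] [MulAction G Ω] : Prop where
  faith : ∀ g : G, (∀ x : Ω, g • x = x) → g = 1
  two : ∀ x y x' y' : Ω, x ≠ y → x' ≠ y' → ∃ g : G, g • x = x' ∧ g • y = y'
  cyc : ∀ x y : Ω, x ≠ y → IsCyclic (stabilizer G x ⊓ stabilizer G y : Subgroup G)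
  even : 2 ∣ Nat.card Ω

/-- `g` has a fixed point -/
def FP (Ω : Type*) {G : Type*} [Group G] [MulAction G Ω] (g : G) : Prop := ∃ x : Ω, g • x = x

variable {G Ω : Type*} [Group G] [MulAction G Ω]

theorem FP.conj {g : G} (h : FP Ω g) (k : G) : FP Ω (k * g * k⁻¹) :=
  h.elim fun x hx => ⟨k • x, by rw [mul_smul, mul_smul, inv_smul_smul, hx]⟩

theorem FP.of_conj {g k : G} (h : FP Ω (k * g * k⁻¹)) : FP Ω g := by
  simpa [mul_assoc] using h.conj k⁻¹

theorem pg_z {u : G} {i : ℕ} (hu : u ^ 2 ^ i = 1) : IsPGroup 2 (zpowers u) :=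
  IsPGroup.of_card_dvd_pow (n := i) (by rwa [Nat.card_zpowers, orderOf_dvd_iff_pow_eq_one])

theorem pg_zz {u v : G} {i j : ℕ} (hu : u ^ 2 ^ i = 1) (hv : v ^ 2 ^ j = 1)
    (c : u * v * u⁻¹ ∈ zpowers v) [Finite G] : IsPGroup 2 (zpowers u ⊔ zpowers v : Subgroup G) :=
  (pg_z hu).to_sup_of_normal_right' (pg_z hv) (zpowers_le.2 (mem_normalizer_fintype (by
    rintro _ ⟨n, rfl⟩
    simpa only [conj_zpow, SetLike.mem_coe] using zpow_mem c n)))

theorem odd_gen {x : G} {n : ℕ} (hx : x ^ 2 ^ n = 1) {k : ℤ} (hk : Odd k) : x ∈ zpowers (x ^ k) := by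
  obtain ⟨m, -, hm⟩ := (Nat.dvd_prime_pow Nat.prime_two).1 (orderOf_dvd_of_pow_eq_one hx)
  obtain ⟨k, rfl⟩ := hk
  exact H42.mem_of_odd_zpow_mem hm (mem_zpowers _)

theorem exists_inv {d : G} {n : ℕ} (hd : d ^ 2 ^ n = 1) (h1 : d ≠ 1) :
    ∃ k : ℕ, d ^ k ≠ 1 ∧ d ^ k * d ^ k = 1 := by
  induction n with
  | zero => exact absurd (by simpa using hd) h1
  | succ n ih =>
    by_cases c : d ^ 2 ^ n = 1
    · exact ih c
    · exact ⟨2 ^ n, c, by rw [← pow_add, ← two_mul, ← pow_succ', hd]⟩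

theorem inv_eq_z [Finite G] {g u v : G} (hu : u ∈ zpowers g) (hv : v ∈ zpowers g) (u2 : u * u = 1)
    (v2 : v * v = 1) (u1 : u ≠ 1) (v1 : v ≠ 1) : u = v := by
  have o : ∀ {x : G}, x * x = 1 → x ≠ 1 → Nat.card (zpowers x) = 2 := fun h1 h2 => by
    rw [Nat.card_zpowers]; exact orderOf_eq_prime (by rwa [sq]) h2
  have := H42.eq_of_le_zpowers_of_card (zpowers_le.2 hu) (zpowers_le.2 hv) (by rw [o u2 u1, o v2 v1])
  exact ((H42.mem_zpowers_of_mul_self v2).1 (this ▸ mem_zpowers u)).resolve_left u1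

theorem card_syl {X : Type*} [Group X] [Finite X] (S : Sylow 2 X) {n o : ℕ} (h : Nat.card X = 2 ^ n * o)
    (ho : Odd o) : Nat.card S = 2 ^ n := by
  rw [S.card_eq_multiplicity, h, Nat.factorization_mul (by positivity) ho.pos.ne',
    Nat.Prime.factorization_pow Nat.prime_two, Finsupp.add_apply, Finsupp.single_eq_same,
    Nat.factorization_eq_zero_of_not_dvd (Nat.two_dvd_ne_zero.2 (Nat.odd_iff.1 ho)), add_zero]

theorem prod_iff [Finite G] {P : Subgroup G} {a b : G} (ha : a ∈ P) (hb : b ∈ P)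
    (hd : ∀ g ∈ zpowers a, g ∈ zpowers b → g = 1) :
    (∀ g ∈ P, ∃ i j : ℤ, g = a ^ i * b ^ j) ↔ orderOf a * orderOf b = Nat.card P := by
  let f : zpowers a × zpowers b → P := fun p =>
    ⟨p.1 * p.2, mul_mem (zpowers_le.2 ha p.1.2) (zpowers_le.2 hb p.2.2)⟩
  have inj : Function.Injective f := fun p q e => mul_injective_of_disjoint
    (disjoint_def.2 fun {g} => hd g) (congrArg Subtype.val e)
  have : Function.Bijective f ↔ _ := Nat.bijective_iff_injective_and_card f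
  rw [Nat.card_prod, Nat.card_zpowers, Nat.card_zpowers, and_iff_right inj, Function.Bijective,
    and_iff_right inj] at this
  rw [← this]
  refine ⟨fun h g => ?_, fun h g hg => ?_⟩
  · obtain ⟨i, j, e⟩ := h g g.2
    exact ⟨(⟨_, i, rfl⟩, ⟨_, j, rfl⟩), Subtype.ext e.symm⟩
  · obtain ⟨⟨⟨_, i, rfl⟩, ⟨_, j, rfl⟩⟩, e⟩ := h ⟨g, hg⟩
    exact ⟨i, j, (congrArg Subtype.val e).symm⟩

variable [Finite G] [Finite Ω] (h : Hyp G Ω)
include h

theorem Hyp.gen {x y : Ω} (hxy : x ≠ y) : ∃ c : G, c • x = x ∧ c • y = y ∧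
    ∀ g : G, g • x = x → g • y = y → g ∈ zpowers c := by
  obtain ⟨c, hc⟩ := (Subgroup.isCyclic_iff_exists_zpowers_eq_top _).1 (h.cyc x y hxy)
  have : c ∈ stabilizer G x ⊓ stabilizer G y := hc ▸ mem_zpowers c
  exact ⟨c, this.1, this.2, fun g h1 h2 => hc ▸ ⟨h1, h2⟩⟩

theorem Hyp.comm {x y : Ω} (hxy : x ≠ y) {g k : G} (h1 : g • x = x) (h2 : g • y = y) (h3 : k • x = x)
    (h4 : k • y = y) : g * k = k * g := by
  obtain ⟨c, -, -, hc⟩ := h.gen hxy
  exact H42.comm_of_mem_zpowers (hc g h1 h2) (hc k h3 h4)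

theorem Hyp.second {X : Subgroup G} (hX : IsPGroup 2 X) {x : Ω} (hx : X ≤ stabilizer G x) :
    ∃ y, x ≠ y ∧ X ≤ stabilizer G y := by
  obtain ⟨y, h1, h2⟩ := hX.exists_fixed_point_of_prime_dvd_card_of_fixed_point Ω h.even (a := x)
    fun g => hx g.2
  exact ⟨y, h2, fun g hg => h1 ⟨g, hg⟩⟩

theorem Hyp.comm2 {u v : G} {i j : ℕ} (hu : u ^ 2 ^ i = 1) (hv : v ^ 2 ^ j = 1)
    (c : u * v * u⁻¹ ∈ zpowers v) {x : Ω} (h1 : u • x = x) (h2 : v • x = x) :
    ∃ g, u ∈ zpowers g ∧ v ∈ zpowers g := by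
  obtain ⟨y, hxy, hy⟩ := h.second (pg_zz hu hv c) (sup_le (zpowers_le.2 h1) (zpowers_le.2 h2))
  obtain ⟨g, -, -, hg⟩ := h.gen hxy
  exact ⟨g, hg u h1 (hy (mem_sup_left (mem_zpowers u))), hg v h2 (hy (mem_sup_right (mem_zpowers v)))⟩

theorem Hyp.inv_eq {u v : G} (u2 : u * u = 1) (v2 : v * v = 1) (u1 : u ≠ 1) (v1 : v ≠ 1)
    (c : u * v = v * u) {x : Ω} (h1 : u • x = x) (h2 : v • x = x) : u = v := by
  obtain ⟨g, hu, hv⟩ := h.comm2 (i := 1) (j := 1) (by rwa [pow_one, sq]) (by rwa [pow_one, sq])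
    (by rw [c, mul_inv_cancel_right]; exact mem_zpowers v) h1 h2
  exact inv_eq_z hu hv u2 v2 u1 v1

omit h in
theorem exists_swap (h : Hyp G Ω) {α β : Ω} (hne : α ≠ β) {z : G} (z2 : z * z = 1) (z1 : z ≠ 1) :
    ∃ g : G, (g * z * g⁻¹) • α = β ∧ (g * z * g⁻¹) • β = α := by
  obtain ⟨x, hx⟩ := not_forall.1 fun c => z1 (h.faith z c)
  obtain ⟨g, h1, h2⟩ := h.two x (z • x) α β (Ne.symm hx) hne
  exact ⟨g, by rw [← h1, ← h2]; simp [mul_smul], by rw [← h1, ← h2]; simp [mul_smul, ← mul_smul z z, z2]⟩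

/-- `b` generates a Sylow 2-subgroup of the stabiliser of `α` and fixes `β` -/
structure Bs (G : Type*) {Ω : Type*} [Group G] [MulAction G Ω] (α β : Ω) (b : G) (r : ℕ) : Prop where
  ne : α ≠ β
  ord : orderOf b = 2 ^ r
  fa : b • α = α
  fb : b • β = β
  card : ∃ o, Odd o ∧ Nat.card (stabilizer G α) = 2 ^ r * o

variable {α β : Ω} {b : G} {r : ℕ} (hb : Bs G α β b r)
include hb

omit h in
theorem Bs.pow : b ^ 2 ^ r = 1 := hb.ord ▸ pow_orderOf_eq_one b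

omit h in
theorem Bs.mx {X : Subgroup G} (hX : IsPGroup 2 X) (h1 : X ≤ stabilizer G α) (h2 : b ∈ X) :
    X ≤ zpowers b := by
  obtain ⟨o, ho, hc⟩ := hb.card
  obtain ⟨k, hk⟩ := IsPGroup.iff_card.1 hX
  have := card_dvd_of_le h1
  rw [hk, hc] at this
  exact (eq_of_le_of_card_ge (zpowers_le.2 h2) (by
    rw [Nat.card_zpowers, hb.ord, hk]
    exact Nat.le_of_dvd (by positivity) (((Nat.coprime_two_left.2 ho).pow_left k).dvd_of_dvd_mul_right
      this))).ge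

theorem Hyp.mem_b {c : G} {k : ℕ} (hc : c ^ 2 ^ k = 1) (h1 : c • α = α) (h2 : c • β = β) :
    c ∈ zpowers b :=
  hb.mx (pg_zz hc hb.pow (by
    rw [h.comm hb.ne h1 h2 hb.fa hb.fb, mul_inv_cancel_right]; exact mem_zpowers b))
    (sup_le (zpowers_le.2 h1) (zpowers_le.2 hb.fa)) (mem_sup_right (mem_zpowers b))
    (mem_sup_left (mem_zpowers c))

variable {w : G} (w2 : w * w = 1) (wa : w • α = β) (wb : w • β = α)
include w2 wa wb

theorem Hyp.red {z : G} (z2 : z * z = 1) (za : z • α = β) (zb : z • β = α) :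
    ∃ (k : G) (i : ℤ), k • α = α ∧ k • β = β ∧ k * z * k⁻¹ = b ^ i * w ∧
      w * b ^ i * w⁻¹ = (b ^ i)⁻¹ := by
  have ga : (z * w) • α = α := by rw [mul_smul, wa, zb]
  have gb : (z * w) • β = β := by rw [mul_smul, wb, za]
  have gi : w * (z * w) * w⁻¹ = (z * w)⁻¹ := by
    rw [mul_inv_rev, inv_eq_of_mul_eq_one_right z2, inv_eq_of_mul_eq_one_right w2, mul_assoc,
      mul_assoc, w2, mul_one]
  have ez : z = z * w * w := by rw [mul_assoc, w2, mul_one]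
  generalize z * w = g at ga gb gi ez
  obtain ⟨e, o, ⟨m, rfl⟩, he⟩ := Nat.exists_eq_two_pow_mul_odd (orderOf_pos g).ne'
  have p : ∀ (n : ℕ) {x : Ω}, g • x = x → g ^ n • x = x := fun n x hx =>
    pow_mem (show g ∈ stabilizer G x from hx) n
  obtain ⟨i, hi⟩ := h.mem_b hb (c := g ^ (2 * m + 1)) (k := e)
    (by rw [← pow_mul, mul_comm, ← he, pow_orderOf_eq_one]) (p _ ga) (p _ gb)
  have hi' : b ^ i = g ^ (2 * m + 1) := hi
  refine ⟨g ^ m, i, p _ ga, p _ gb, ?_, by rw [hi', ← conj_pow, gi, inv_pow]⟩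
  have : w * (g ^ m)⁻¹ = g ^ m * w := by
    rw [← inv_pow, ← gi, conj_pow, inv_eq_of_mul_eq_one_right w2, ← mul_assoc, ← mul_assoc, w2, one_mul]
  rw [hi', ez, mul_assoc, mul_assoc, this]
  group

theorem Hyp.dich (hr : 1 ≤ r) (wf : FP Ω w) {z : G} (z2 : z * z = 1) (za : z • α = β) (zb : z • β = α)
    (zf : ¬ FP Ω z) : w * b * w⁻¹ = b⁻¹ ∨ w * b * w⁻¹ = b := by
  obtain ⟨k, i, -, -, h1, h2⟩ := h.red hb w2 wa wb z2 za zb
  have w' := inv_eq_of_mul_eq_one_right w2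
  obtain ⟨c, hc⟩ := h.mem_b hb (c := w * b * w⁻¹) (k := r) (by rw [conj_pow, hb.pow]; simp)
    (by rw [w', mul_smul, mul_smul, wa, hb.fb, wb]) (by rw [w', mul_smul, mul_smul, wb, hb.fa, wa])
  have hc' : b ^ c = w * b * w⁻¹ := hc
  have nf : ∀ u : ℤ, (b ^ (1 - c)) ^ u ≠ b ^ i := fun u e => zf (FP.of_conj (k := k) (by
    have : b ^ u * w * (b ^ u)⁻¹ = (b ^ (1 - c)) ^ u * w := by
      rw [← zpow_mul, sub_mul, one_mul, zpow_sub, zpow_mul, hc', conj_zpow, w']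
      simp [mul_assoc, w2, w']
    rw [h1, ← e, ← this]
    exact wf.conj _))
  rcases Int.even_or_odd i with ⟨l, rfl⟩ | hi
  · obtain ⟨c', rfl⟩ : Odd c := by
      rw [← Int.not_even_iff_odd]
      rintro ⟨c', rfl⟩
      obtain ⟨r, rfl⟩ := Nat.exists_eq_add_of_le' hr
      have : b ^ 2 ^ r = 1 := by
        rw [← conj_eq_one_iff (a := w), ← conj_pow, ← hc', ← two_mul, ← zpow_natCast, ← zpow_mul,
          show 2 * c' * ((2 ^ r : ℕ) : ℤ) = ((2 ^ (r + 1) : ℕ) : ℤ) * c' by push_cast; ring, zpow_mul,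
          zpow_natCast, hb.pow, one_zpow]
      exact pow_ne_one_of_lt_orderOf (by positivity) (by rw [hb.ord]; gcongr <;> omega) this
    have b2 : ∀ n : ℤ, (b ^ n) ^ 2 ^ r = 1 := fun n => by
      rw [← zpow_natCast, ← zpow_mul, mul_comm, zpow_mul, zpow_natCast, hb.pow, one_zpow]
    rcases Int.even_or_odd c' with hc2 | hc2
    · have e1 : (b ^ (l + l) * b ^ (l + l)) ^ (c' + 1) = 1 := by
        rw [← conj_zpow, ← hc', ← zpow_mul, ← zpow_neg, ← mul_inv_eq_one, ← zpow_sub] at h2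
        rw [← zpow_add, ← zpow_mul, ← h2]
        congr 1; ring
      have e2 : b ^ (l + l) * b ^ (l + l) = 1 := by
        have := odd_gen (x := b ^ (l + l) * b ^ (l + l)) (n := r) (by rw [← zpow_add, b2]) hc2.add_one
        rwa [e1, zpowers_one_eq_bot, mem_bot] at this
      refine Or.inr (by_contra fun n => ?_)
      obtain ⟨j, j1, j2⟩ := exists_inv (b2 (1 - (2 * c' + 1))) (fun e => n (by
        rw [zpow_sub, zpow_one, mul_inv_eq_one] at e
        rw [← hc', ← e]))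
      exact nf j (by
        rw [zpow_natCast]
        exact inv_eq_z (pow_mem (zpow_mem (mem_zpowers b) _) _) (zpow_mem (mem_zpowers b) _) j2 e2 j1
          (by simpa using (nf 0).symm))
    · obtain ⟨u, hu⟩ := odd_gen (b2 2) hc2
      refine (nf (-(u * l)) ?_).elim
      have hu' : ((b ^ (2 : ℤ)) ^ c') ^ u = b ^ (2 : ℤ) := hu
      rw [← two_mul, zpow_mul b 2 l, ← hu']
      simp only [← zpow_mul]
      congr 1; ring
  · obtain ⟨u, hu⟩ := odd_gen hb.pow hi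
    have hu' : (b ^ i) ^ u = b := hu
    exact Or.inl (by rw [← hu', ← conj_zpow, h2, inv_zpow])

/-- transport of the action of `w` on `b` to any pair -/
theorem Hyp.trans {ε : ℤ} (hε : w * b * w⁻¹ = b ^ ε) {u c : G} {x : Ω} {k : ℕ} (hx : u • x ≠ x)
    (u2 : u * u = 1) (c1 : c • x = x) (c2 : c • u • x = u • x) (hc : c ^ 2 ^ k = 1) :
    u * c * u⁻¹ = c ^ ε := by
  obtain ⟨g, h1, h2⟩ := h.two x (u • x) α β hx.symm hb.ne
  obtain ⟨i, hi⟩ := h.mem_b hb (c := g * c * g⁻¹) (k := k) (by rw [conj_pow, hc]; simp)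
    (by rw [← h1]; simp [mul_smul, c1]) (by rw [← h2]; simp [mul_smul, c2])
  have hi' : b ^ i = g * c * g⁻¹ := hi
  have e := h.comm hb.ne (g := g * u * g⁻¹ * w) (k := b)
    (by rw [mul_smul, wa, ← h1, ← h2]; simp [mul_smul, ← mul_smul u u, u2])
    (by rw [mul_smul, wb, ← h1, ← h2]; simp [mul_smul]) hb.fa hb.fb
  have e2 : g * u * g⁻¹ * b ^ ε * (g * u * g⁻¹)⁻¹ = b := by
    rw [← hε, ← mul_assoc, ← mul_assoc, e, inv_eq_of_mul_eq_one_right w2]
    simp [mul_assoc, w2]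
  have e3 : u * c ^ ε * u⁻¹ = c := by
    have := congrArg (fun y => g⁻¹ * y ^ i * g) e2
    simp only [conj_zpow] at this
    rw [← zpow_mul, mul_comm ε, zpow_mul, hi', conj_zpow] at this
    simpa [mul_assoc] using this
  conv_lhs => rw [← e3]
  rw [inv_eq_of_mul_eq_one_right u2]
  simp [mul_assoc, ← mul_assoc u u, u2]

end Cfsg.Agent.H89CZ
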