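import Cfsg.Agent.H89.CZA
import Cfsg.Agent.H42.Local
import Cfsg.Agent.S0215

/-! Doubly transitive groups of even degree `n` with cyclic two-point stabilisers and a semiregular
element of order the 2-part of `n`: a Sylow 2-subgroup has a cyclic subgroup of index at most 2. -/

set_option autoImplicit false
set_option linter.unusedSectionVars false

namespace Cfsg.Agent.H89CZ

open Subgroup MulAction

universe u

section

variable {G : Type*} [Group G] [Finite G]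

theorem sq_mem_of_card {A R : Subgroup G} (h : A ≤ R) (hc : Nat.card R ≤ 2 * Nat.card A) {g : G}
    (hg : g ∈ R) : g * g ∈ A := by
  have h1 := (A.subgroupOf R).index_mul_card
  rw [Nat.card_congr (subgroupOfEquivOfLe h).toEquiv] at h1
  have h2 : (A.subgroupOf R).index ≤ 2 := Nat.le_of_mul_le_mul_right (h1 ▸ hc) Nat.card_pos
  have h3 : (A.subgroupOf R).index ≠ 0 := FiniteIndex.index_ne_zero
  rcases (by omega : (A.subgroupOf R).index = 1 ∨ (A.subgroupOf R).index = 2) with e | e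
  · exact subgroupOf_eq_top.1 (index_eq_one.1 e) (mul_mem hg hg)
  · exact mul_self_mem_of_index_two e ⟨g, hg⟩

theorem gen_inf (K : Subgroup G) (a : G) :
    ∃ c ∈ zpowers a, c ∈ K ∧ ∀ g ∈ zpowers a, g ∈ K → g ∈ zpowers c := by
  obtain ⟨c, hc⟩ := (Subgroup.isCyclic_iff_exists_zpowers_eq_top (zpowers a ⊓ K)).1
    (isCyclic_of_le inf_le_left)
  have : c ∈ zpowers a ⊓ K := hc ▸ mem_zpowers c
  exact ⟨c, this.1, this.2, fun g h1 h2 => hc ▸ ⟨h1, h2⟩⟩

theorem conj_into {p : ℕ} [Fact p.Prime] (S : Sylow p G) {x : G} (hx : IsPGroup p (zpowers x)) :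
    ∃ c : G, c * x * c⁻¹ ∈ S := by
  obtain ⟨Q, hQ⟩ := hx.exists_le_sylow
  obtain ⟨c, rfl⟩ := exists_smul_eq G Q S
  exact ⟨c, smul_mem_pointwise_smul x (MulAut.conj c) _ (hQ (mem_zpowers x))⟩

theorem half {a : G} {s : ℕ} (ha : orderOf a = 2 ^ (s + 1)) :
    a ^ 2 ^ s * a ^ 2 ^ s = 1 ∧ a ^ 2 ^ s ≠ 1 :=
  ⟨by rw [← pow_add, ← two_mul, ← pow_succ', ← ha, pow_orderOf_eq_one],
    pow_ne_one_of_lt_orderOf (by positivity) (by rw [ha]; gcongr <;> omega)⟩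

end

variable {G Ω : Type u} [Group G] [MulAction G Ω] [Finite G] [Finite Ω] (h : Hyp G Ω)
  {α β : Ω} {b : G} {r : ℕ} (hb : Bs G α β b (r + 2))
  {w : G} (w2 : w * w = 1) (wa : w • α = β) (wb : w • β = α)
  {a : G} {s : ℕ} (ha : orderOf a = 2 ^ (s + 2)) (sr : ∀ g ∈ zpowers a, FP Ω g → g = 1)
  {P : Subgroup G} (hP : IsPGroup 2 P) (aP : a ∈ P) (bP : b ∈ P)
  (pr : ∀ g ∈ P, ∃ i j : ℤ, g = a ^ i * b ^ j)

include h hb w2 wa wb ha sr hP aP bP pr in
theorem caseA (hw : w * b * w⁻¹ = b⁻¹) : False := by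
  obtain ⟨z2, z1⟩ := half ha
  have za : a ^ 2 ^ (s + 1) ∈ zpowers a := pow_mem (mem_zpowers a) _
  have fb : ∀ v ∈ zpowers b, v • α = α := fun v hv => zpowers_le.2 (show b ∈ stabilizer G α from hb.fa) hv
  have key : ∀ v ∈ zpowers b, v ∈ P ⊓ centralizer {a ^ 2 ^ (s + 1)} → v * v = 1 := fun v hv hc => by
    have c := mem_centralizer_singleton_iff.1 hc.2
    obtain ⟨k, hk⟩ := hP ⟨v, hc.1⟩
    have := h.trans hb w2 wa wb (ε := -1) (by rw [hw, zpow_neg_one]) (fun e => z1 (sr _ za ⟨α, e⟩)) z2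
      (fb v hv) (by rw [← mul_smul, c, mul_smul, fb v hv]) (congrArg Subtype.val hk)
    rwa [← c, mul_inv_cancel_right, zpow_neg_one, eq_inv_iff_mul_eq_one] at this
  generalize hM : P ⊓ centralizer {a ^ 2 ^ (s + 1)} = M at key
  have aM : a ∈ M := hM ▸ ⟨aP, mem_centralizer_singleton_iff.2 (Commute.self_pow a _)⟩
  obtain ⟨x, hx, hx'⟩ := SetLike.exists_of_lt (H42.lt_inf_normalizer hP (E := M)
    (lt_of_le_of_ne (hM ▸ inf_le_left) fun e => pow_ne_one_of_lt_orderOf two_ne_zero (by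
      rw [hb.ord, pow_add]; nlinarith [Nat.one_le_two_pow (n := r)]) ((sq b).trans
        (key b (mem_zpowers b) (e ▸ bP)))))
  obtain ⟨v, v1, v2, v3⟩ := gen_inf M b
  have hc := (prod_iff aM v2 fun g h1 h2 => sr g h1 ⟨α, fb g (zpowers_le.2 v1 h2)⟩).1 fun g hg => by
    obtain ⟨i, j, rfl⟩ := pr g ((hM ▸ inf_le_left : M ≤ P) hg)
    obtain ⟨k, hk⟩ := v3 _ ⟨j, rfl⟩ ((mul_mem_cancel_left (zpow_mem aM i)).1 hg)
    exact ⟨i, k, congrArg _ hk.symm⟩
  have h2 := sq_mem_of_card (zpowers_le.2 aM) (by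
    rw [← hc, Nat.card_zpowers, mul_comm 2]
    exact Nat.mul_le_mul_left _ (orderOf_le_of_pow_eq_one two_pos ((sq v).trans (key v v1 v2))))
    ((mem_normalizer_iff.1 hx.2 a).1 aM)
  have h3 := pow_mem h2 (2 ^ s)
  rw [← sq, ← pow_mul, ← pow_succ', conj_pow] at h3
  refine hx' (hM ▸ ⟨hx.1, mem_centralizer_singleton_iff.2 (mul_inv_eq_iff_eq_mul.1
    (inv_eq_z h3 za ?_ z2 (by simpa using z1) z1))⟩)
  rw [conj_mul, z2, mul_one, mul_inv_cancel]

include h in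
theorem Hyp.witt {t : G} (t2 : t * t = 1) (t1 : t ≠ 1) {x y x' y' : Ω} (n1 : x ≠ y) (n2 : x' ≠ y')
    (h1 : t • x = x) (h2 : t • y = y) (h3 : t • x' = x') (h4 : t • y' = y') :
    ∃ g ∈ centralizer {t}, g • x = x' ∧ g • y = y' := by
  obtain ⟨g, g1, g2⟩ := h.two x y x' y' n1 n2
  have e1 : (g * t * g⁻¹) • x' = x' := by rw [← g1]; simp [mul_smul, h1]
  have e2 : (g * t * g⁻¹) • y' = y' := by rw [← g2]; simp [mul_smul, h2]
  exact ⟨g, mem_centralizer_singleton_iff.2 (mul_inv_eq_iff_eq_mul.1 (h.inv_eq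
    (by rw [conj_mul, t2, mul_one, mul_inv_cancel]) t2 (by simpa using t1) t1
    (h.comm n2 e1 e2 h3 h4) e1 h3)), g1, g2⟩

/-- the fixed points of `t` -/
def Fx (Ω : Type*) {G : Type*} [Group G] [MulAction G Ω] (t : G) :
    SubMulAction (centralizer ({t} : Set G)) Ω :=
  ⟨{y | t • y = y}, fun c y (hy : t • y = y) => show t • (c : G) • y = (c : G) • y by
    rw [← mul_smul, ← mem_centralizer_singleton_iff.1 c.2, mul_smul, hy]⟩

include h in
theorem Hyp.fx {t : G} (t2 : t * t = 1) (t1 : t ≠ 1) :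
    Hyp (toPermHom (centralizer ({t} : Set G)) (Fx Ω t)).range (Fx Ω t) where
  faith g hg := Subtype.ext (Equiv.ext hg)
  two x y x' y' n1 n2 := by
    obtain ⟨g, g0, g1, g2⟩ := h.witt t2 t1 (Subtype.coe_ne_coe.2 n1) (Subtype.coe_ne_coe.2 n2)
      x.2 y.2 x'.2 y'.2
    exact ⟨⟨_, ⟨g, g0⟩, rfl⟩, Subtype.ext g1, Subtype.ext g2⟩
  cyc x y n := by
    obtain ⟨c, c1, c2, c3⟩ := h.gen (Subtype.coe_ne_coe.2 n)
    refine isCyclic_of_le (H' := zpowers ((toPermHom _ (Fx Ω t)).rangeRestrict ⟨c,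
      mem_centralizer_singleton_iff.2 (h.comm (Subtype.coe_ne_coe.2 n) c1 c2 x.2 y.2)⟩)) ?_
    rintro ⟨_, g, rfl⟩ ⟨g1, g2⟩
    obtain ⟨i, hi⟩ := c3 g (congrArg Subtype.val g1) (congrArg Subtype.val g2)
    exact ⟨i, by
      simp only
      rw [← map_zpow]
      exact Subtype.ext (congrArg (toPermHom _ (Fx Ω t)) (Subtype.ext hi))⟩
  even := by
    have := (pg_z (u := t) (i := 1) (by rwa [pow_one, sq])).card_modEq_card_fixedPoints Ω
    rw [Nat.card_congr (Equiv.subtypeEquivRight (q := fun y => y ∈ Fx Ω t) fun y =>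
      ⟨fun k => k ⟨t, mem_zpowers t⟩, fun k g => zpowers_le.2 (show t ∈ stabilizer G y from k) g.2⟩)]
      at this
    exact (this.dvd_iff (dvd_refl 2)).1 h.even

def Claim (G Ω : Type*) [Group G] [MulAction G Ω] : Prop :=
  ∀ (a : G) (s o : ℕ), orderOf a = 2 ^ (s + 2) → Nat.card Ω = 2 ^ (s + 2) * o → Odd o →
    (∀ g ∈ zpowers a, FP Ω g → g = 1) → ∀ (b : G) (k : ℕ), FP Ω b → b ^ 2 ^ k = 1 → b * b = 1

end Cfsg.Agent.H89CZ
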