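import Cfsg.Agent.H89.CZB

/-! The case where involutions swapping two points centralise the Sylow 2-subgroup fixing them. -/

set_option autoImplicit false
set_option linter.unusedSectionVars false

namespace Cfsg.Agent.H89CZ

open Subgroup MulAction

universe u

theorem mem_of_two_odd {G : Type*} [Group G] {N : Subgroup G} {x : G} {e o : ℕ} (ho : Odd o)
    (h1 : x ^ 2 ^ e ∈ N) (h2 : x ^ o ∈ N) : x ∈ N := by
  have := Nat.gcd_eq_gcd_ab (2 ^ e) o
  rw [((Nat.coprime_two_left.2 ho).pow_left e).gcd_eq_one] at this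
  rw [← zpow_one x, ← Nat.cast_one, this, zpow_add, zpow_mul, zpow_mul, zpow_natCast, zpow_natCast]
  exact mul_mem (zpow_mem h1 _) (zpow_mem h2 _)

theorem sq_form {G : Type*} [Group G] {a b : G} {p q : ℤ} (c : Commute a (b * b))
    (e : b * a * b⁻¹ = a ^ p * (b * b) ^ q) (i j : ℤ) :
    (a ^ i * (b * b) ^ j * b) * (a ^ i * (b * b) ^ j * b) =
      a ^ ((1 + p) * i) * (b * b) ^ (q * i + 2 * j + 1) := by
  have h1 : b * a ^ i * b⁻¹ = a ^ (p * i) * (b * b) ^ (q * i) := by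
    rw [← conj_zpow, e, (c.zpow_zpow p q).mul_zpow, ← zpow_mul, ← zpow_mul]
  have h2 : b * (b * b) ^ j = (b * b) ^ j * b := (((Commute.refl b).mul_right (Commute.refl b)).zpow_right j).eq
  calc _ = a ^ i * ((b * b) ^ j * (b * a ^ i * b⁻¹)) * (b * (b * b) ^ j * b) := by group
    _ = _ := by
      rw [h1, h2, ← mul_assoc _ (a ^ _), ← (c.zpow_zpow _ _).eq, mul_assoc _ b b]
      generalize b * b = y
      group

variable {G Ω : Type u} [Group G] [MulAction G Ω] [Finite G] [Finite Ω] (h : Hyp G Ω)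
  {α β : Ω} {b : G} {r : ℕ} (hb : Bs G α β b (r + 2))
  {w : G} (w2 : w * w = 1) (wa : w • α = β) (wb : w • β = α) (hw : w * b * w⁻¹ = b)
  {t : G} (ht : t = b ^ 2 ^ (r + 1))
include h hb w2 wa wb hw ht

theorem fp_mul (wf : FP Ω w) {z : G} (z2 : z * z = 1) (zf : ¬ FP Ω z) (c : z * t = t * z) :
    FP Ω (t * z) := by
  obtain ⟨t2, t1⟩ := half hb.ord
  rw [← ht] at t2 t1
  have ta : t • α = α := ht ▸ pow_mem (show b ∈ stabilizer G α from hb.fa) _
  have tb : t • β = β := ht ▸ pow_mem (show b ∈ stabilizer G β from hb.fb) _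
  obtain ⟨g, g0, g1, g2⟩ := h.witt t2 t1 (x := α) (y := z • α) (fun e => zf ⟨α, e.symm⟩) hb.ne ta
    (by rw [← mul_smul, ← c, mul_smul, ta]) ta tb
  obtain ⟨k, i, k1, k2, k3, k4⟩ := h.red hb w2 wa wb (z := g * z * g⁻¹)
    (by rw [conj_mul, z2, mul_one, mul_inv_cancel])
    (by conv_lhs => rw [← g1]
        rw [← g2]; simp [mul_smul])
    (by rw [← g2]; simp [mul_smul, ← mul_smul z z, z2, g1])
  rw [← conj_zpow, hw, eq_inv_iff_mul_eq_one] at k4
  have e : b ^ i = t := inv_eq_z (zpow_mem (mem_zpowers b) i) (ht ▸ pow_mem (mem_zpowers b) _) k4 t2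
    (fun e => zf (FP.of_conj (k := g) (FP.of_conj (k := k) (by rwa [k3, e, one_mul])))) t1
  refine FP.of_conj (k := g) (FP.of_conj (k := k) ?_)
  rwa [← conj_mul (b := g), mul_inv_eq_of_eq_mul (mem_centralizer_singleton_iff.1 g0), ← conj_mul (b := k),
    mul_inv_eq_of_eq_mul (h.comm hb.ne k1 k2 ta tb), k3, e, ← mul_assoc, t2, one_mul]

/-- if `b²` fixes all fixed points of `t`, it is central in `C(t)` -/
theorem cent_sq (hf : ∀ y : Ω, t • y = y → (b * b) • y = y) {c : G} (hc : c * t = t * c) :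
    c * (b * b) = b * b * c := by
  obtain ⟨t2, t1⟩ := half hb.ord
  rw [← ht] at t2 t1
  have ta : t • α = α := ht ▸ pow_mem (show b ∈ stabilizer G α from hb.fa) _
  have tb : t • β = β := ht ▸ pow_mem (show b ∈ stabilizer G β from hb.fb) _
  have o : orderOf (b * b) = 2 ^ (r + 1) := by
    rw [← sq]; exact H42.orderOf_pow_of_eq_mul two_ne_zero (by rw [hb.ord, pow_succ'])
  have p : (b * b) ^ 2 ^ (r + 1) = 1 := o ▸ pow_orderOf_eq_one _
  have nz : ∀ k : G, k * t = t * k → k * (b * b) * k⁻¹ ∈ zpowers (b * b) := fun k hk => by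
    have f : ∀ y : Ω, t • y = y → (k * (b * b) * k⁻¹) • y = y := fun y hy => by
      rw [mul_smul, mul_smul, hf _ (by
        rw [← mul_smul, ← (show Commute k t from hk).inv_left.eq, mul_smul, hy]), smul_inv_smul]
    rw [H42.eq_of_le_zpowers_of_card (x := b) (zpowers_le.2 (mul_mem (mem_zpowers b) (mem_zpowers b)))
      (zpowers_le.2 (h.mem_b hb (k := r + 1) (by rw [conj_pow, p]; simp) (f α ta) (f β tb)))
      (by rw [Nat.card_zpowers, Nat.card_zpowers]; exact ((MulAut.conj k).orderOf_eq _).symm)]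
    exact mem_zpowers _
  have st : ∀ k : G, k * t = t * k → k • α = α → k ∈ centralizer {b * b} := fun k hk ka => by
    obtain ⟨e, m, hm, he⟩ := Nat.exists_eq_two_pow_mul_odd (orderOf_pos k).ne'
    refine mem_of_two_odd (e := e) hm (mem_centralizer_singleton_iff.2
      (H42.comm_of_odd_of_conj_mem_zpowers (by
        rwa [H42.orderOf_pow_of_eq_mul (by positivity) he]) o
        (nz _ ((show Commute k t from hk).pow_left _)))) ?_
    obtain ⟨g, g1, g2⟩ := h.comm2 (u := k ^ m) (i := e)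
      (by rw [← pow_mul, mul_comm, ← he, pow_orderOf_eq_one]) p
      (nz _ ((show Commute k t from hk).pow_left _)) (pow_mem (show k ∈ stabilizer G α from ka) _)
      (hf α ta)
    exact mem_centralizer_singleton_iff.2 (H42.comm_of_mem_zpowers g1 g2)
  by_cases ca : c • α = α
  · exact mem_centralizer_singleton_iff.1 (st c hc ca)
  obtain ⟨g, g0, g1, g2⟩ := h.witt t2 t1 hb.ne (Ne.symm ca) ta tb ta
    (by rw [← mul_smul, ← hc, mul_smul, ta])
  have cw : Commute w b := mul_inv_eq_iff_eq_mul.1 hw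
  have gm := st g (mem_centralizer_singleton_iff.1 g0) g1
  have wm : w ∈ centralizer {b * b} := mem_centralizer_singleton_iff.2 (cw.mul_right cw)
  have := st (w * g⁻¹ * c) (((ht ▸ cw.pow_right _ : Commute w t).mul_left
    (show Commute g t from mem_centralizer_singleton_iff.1 g0).inv_left).mul_left hc)
    (by rw [mul_smul, mul_smul, ← g2, inv_smul_smul, wb])
  exact mem_centralizer_singleton_iff.1 ((mul_mem_cancel_left (mul_mem wm (inv_mem gm))).1 this)

theorem caseB {g0 : G} (hg0 : w = g0 * t * g0⁻¹) {a : G} (sr : ∀ g ∈ zpowers a, FP Ω g → g = 1)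
    {P : Subgroup G} (pr : ∀ g ∈ P, ∃ i j : ℤ, g = a ^ i * b ^ j) (bP : b ∈ P)
    (S : Sylow 2 (centralizer ({t} : Set G))) (hS : ∀ c, c ∈ S ↔ (c : G) ∈ P)
    (IH : Claim (toPermHom (centralizer ({t} : Set G)) (Fx Ω t)).range (Fx Ω t)) : False := by
  obtain ⟨t2, t1⟩ := half hb.ord
  rw [← ht] at t2 t1
  have fb : ∀ v ∈ zpowers b, v • α = α := fun v hv => zpowers_le.2 (show b ∈ stabilizer G α from hb.fa) hv
  have tm : t ∈ zpowers b := ht ▸ pow_mem (mem_zpowers b) _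
  have ta : t • α = α := fb t tm
  have tb : t • β = β := ht ▸ pow_mem (show b ∈ stabilizer G β from hb.fb) _
  have wf : FP Ω w := hg0 ▸ FP.conj ⟨α, ta⟩ g0
  have bC : b ∈ centralizer {t} := mem_centralizer_singleton_iff.2 (ht ▸ Commute.self_pow b _)
  have hF := h.fx t2 t1
  let α' : Fx Ω t := ⟨α, ta⟩
  let β' : Fx Ω t := ⟨β, tb⟩
  have ne' : α' ≠ β' := fun e => hb.ne (congrArg Subtype.val e)
  have tw : ∀ x y x' y' : Fx Ω t, x ≠ y → x' ≠ y' → ∃ c : centralizer ({t} : Set G),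
      c • x = x' ∧ c • y = y' := fun x y x' y' n1 n2 => by
    obtain ⟨⟨_, c, rfl⟩, hc⟩ := hF.two x y x' y' n1 n2
    exact ⟨c, hc⟩
  have : Nontrivial (Fx Ω t) := ⟨_, _, ne'⟩
  have : IsPretransitive (centralizer ({t} : Set G)) (Fx Ω t) := ⟨fun x y => by
    obtain ⟨x', hx⟩ := exists_ne x
    obtain ⟨y', hy⟩ := exists_ne y
    exact (tw x x' y y' hx.symm hy.symm).imp fun _ k => k.1⟩
  obtain ⟨e, o, ho, he⟩ := Nat.exists_eq_two_pow_mul_odd (Nat.card_pos (α := Fx Ω t)).ne'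
  obtain ⟨o', ho', he'⟩ : ∃ o', Odd o' ∧
      Nat.card (stabilizer (centralizer ({t} : Set G)) α') = 2 ^ (r + 2) * o' := by
    obtain ⟨o1, h1, h2⟩ := hb.card
    obtain ⟨o', h3⟩ := (stabilizer (centralizer ({t} : Set G)) α').orderOf_dvd_natCard
      (x := ⟨b, bC⟩) (Subtype.ext hb.fa)
    have h4 := card_dvd_of_le (show (stabilizer (centralizer ({t} : Set G)) α').map (Subgroup.subtype _) ≤
      stabilizer G α by rintro _ ⟨c, hc, rfl⟩; exact congrArg Subtype.val hc)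
    rw [orderOf_mk, hb.ord] at h3
    rw [card_map_of_injective (subtype_injective _), h2, h3] at h4
    exact ⟨o', h1.of_dvd_nat (Nat.dvd_of_mul_dvd_mul_left (by positivity) h4), h3⟩
  have cS := card_syl S (n := e + (r + 2)) (o := o * o') (by
    rw [← (stabilizer _ α').index_mul_card, index_stabilizer_of_transitive, he, he']; ring) (ho.mul ho')
  obtain ⟨R, hR, cR⟩ : ∃ R : Subgroup G, (∀ g, g ∈ R ↔ g ∈ P ∧ g ∈ centralizer {t}) ∧
      Nat.card R = 2 ^ (e + (r + 2)) := ⟨(S : Subgroup _).map (Subgroup.subtype _), fun g =>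
    ⟨by rintro ⟨c, hc, rfl⟩; exact ⟨(hS c).1 hc, c.2⟩, fun k => ⟨⟨g, k.2⟩, (hS _).2 k.1, rfl⟩⟩,
    by rw [card_map_of_injective (subtype_injective _), cS]⟩
  obtain ⟨a1, a1a, a1R, a1g⟩ := gen_inf R a
  have bR : b ∈ R := (hR b).2 ⟨bP, bC⟩
  have sr1 : ∀ g ∈ zpowers a1, FP Ω g → g = 1 := fun g hg => sr g (zpowers_le.2 a1a hg)
  have dj : ∀ g ∈ zpowers a1, g ∈ zpowers b → g = 1 := fun g h1 h2 => sr1 g h1 ⟨α, fb g h2⟩
  have prR : ∀ g ∈ R, ∃ i j : ℤ, g = a1 ^ i * b ^ j := fun g hg => by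
    obtain ⟨i, j, rfl⟩ := pr g ((hR g).1 hg).1
    obtain ⟨k, hk⟩ := a1g _ ⟨i, rfl⟩ ((mul_mem_cancel_right (zpow_mem bR j)).1 hg)
    exact ⟨k, j, congrArg (· * _) hk.symm⟩
  have oa : orderOf a1 = 2 ^ e := by
    have := (prod_iff a1R bR dj).1 prR
    rw [cR, hb.ord, pow_add 2 e] at this
    exact Nat.eq_of_mul_eq_mul_right (Nat.two_pow_pos _) this
  obtain ⟨b', b'R, n1, n2, n3, n4⟩ : ∃ b' ∈ R, b' ^ 2 ^ (r + 1) ≠ t ∧ b' ^ 2 ^ (r + 1) ≠ 1 ∧
      b' ^ 2 ^ (r + 1) * b' ^ 2 ^ (r + 1) = 1 ∧ FP Ω (b' ^ 2 ^ (r + 1)) := by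
    obtain ⟨c, hc⟩ := conj_into S (x := ⟨g0⁻¹ * b * g0⁻¹⁻¹, mem_centralizer_singleton_iff.2 (by
      have := mul_inv_eq_iff_eq_mul.1 hw
      rw [hg0] at this
      simpa [mul_assoc] using congrArg (fun y => g0⁻¹ * y * g0) this.symm)⟩)
      (pg_z (i := r + 2) (Subtype.ext (by
        rw [SubmonoidClass.coe_pow, conj_pow, hb.pow, mul_one, mul_inv_cancel, coe_one])))
    refine ⟨_, (hR _).2 ⟨(hS _).1 hc, Subtype.property _⟩, ?_⟩
    simp only [coe_mul, coe_inv, conj_pow, ← ht]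
    refine ⟨fun k => hb.ne ?_, by simpa only [Ne, conj_eq_one_iff] using t1,
      by simp only [conj_mul, t2]; simp,
      (FP.conj ⟨α, ta⟩ _).conj _⟩
    rw [mul_inv_eq_iff_eq_mul, ← mem_centralizer_singleton_iff.1 c.2, mul_left_cancel_iff] at k
    rw [← wa, hg0, ← k]
    simp [mul_assoc, ta]
  have nb : b' * b' ∉ zpowers b := fun k => n1 (inv_eq_z (by
    rw [pow_succ', pow_mul, sq]; exact pow_mem k _) tm n3 t2 n2 t1)
  obtain ⟨e, rfl⟩ : ∃ e', e = e' + 2 := Nat.exists_eq_add_of_le' (by_contra fun k => nb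
    (sq_mem_of_card (zpowers_le.2 bR) (by
      rw [cR, Nat.card_zpowers, hb.ord, ← pow_succ']
      exact Nat.pow_le_pow_right two_pos (by omega)) b'R))
  let π := (toPermHom (centralizer ({t} : Set G)) (Fx Ω t)).rangeRestrict
  have a1C := ((hR _).1 a1R).2
  have hπ : ∀ g ∈ zpowers (π ⟨a1, a1C⟩), FP (Fx Ω t) g → g = 1 := by
    rintro _ ⟨i, rfl⟩ ⟨x, hx⟩
    simp only [← map_zpow] at hx ⊢
    rw [show (⟨a1, a1C⟩ : centralizer ({t} : Set G)) ^ i = 1 from
      Subtype.ext (sr1 _ ⟨i, rfl⟩ ⟨x, congrArg Subtype.val hx⟩), map_one]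
  have b2 := IH (π ⟨a1, a1C⟩) e o (by
    rw [← oa]
    refine orderOf_eq_orderOf_iff.2 fun n => ⟨fun k => sr1 _ (pow_mem (mem_zpowers _) _) ⟨α, ?_⟩,
      fun k => by rw [← map_pow, show (⟨a1, a1C⟩ : centralizer ({t} : Set G)) ^ n = 1 from
        Subtype.ext k, map_one]⟩
    rw [← map_pow] at k
    exact congrArg (fun g : (toPermHom _ (Fx Ω t)).range => ((g • α' : Fx Ω t) : Ω)) k) he ho hπ
    (π ⟨b, bC⟩) (r + 2) ⟨α', Subtype.ext hb.fa⟩ (by
      rw [← map_pow, show (⟨b, bC⟩ : centralizer ({t} : Set G)) ^ _ = 1 from Subtype.ext hb.pow, map_one])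
  have cy : Commute a1 (b * b) := cent_sq h hb w2 wa wb hw ht (fun y hy => by
    rw [← map_mul] at b2
    exact congrArg (fun g : (toPermHom _ (Fx Ω t)).range => ((g • (⟨y, hy⟩ : Fx Ω t) : Fx Ω t) : Ω)) b2)
    (mem_centralizer_singleton_iff.1 a1C)
  have oy : orderOf (b * b) = 2 ^ (r + 1) := by
    rw [← sq]; exact H42.orderOf_pow_of_eq_mul two_ne_zero (by rw [hb.ord, pow_succ'])
  have yb : ∀ j : ℤ, (b * b) ^ j ∈ zpowers b := fun j =>
    zpow_mem (mul_mem (mem_zpowers b) (mem_zpowers b)) j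
  have dj' : ∀ i j : ℤ, a1 ^ i * (b * b) ^ j = 1 → a1 ^ i = 1 ∧ (b * b) ^ j = 1 := fun i j k => by
    have := dj _ (zpow_mem (mem_zpowers a1) i) (by rw [eq_inv_of_mul_eq_one_left k]; exact inv_mem (yb j))
    exact ⟨this, by rwa [this, one_mul] at k⟩
  have frm : ∀ g ∈ R, ∃ i j : ℤ, g = a1 ^ i * (b * b) ^ j ∨ g = a1 ^ i * (b * b) ^ j * b := fun g hg => by
    obtain ⟨i, j, rfl⟩ := prR g hg
    rcases Int.even_or_odd' j with ⟨j, rfl | rfl⟩
    · exact ⟨i, j, Or.inl (by rw [zpow_mul, zpow_two])⟩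
    · exact ⟨i, j, Or.inr (by rw [zpow_add_one, zpow_mul, zpow_two, mul_assoc])⟩
  obtain ⟨p, q, hpq⟩ : ∃ p q : ℤ, b * a1 * b⁻¹ = a1 ^ p * (b * b) ^ q := by
    let M : Subgroup G :=
      { carrier := {g | ∃ i j : ℤ, g = a1 ^ i * (b * b) ^ j}
        mul_mem' := by
          rintro _ _ ⟨i, j, rfl⟩ ⟨i', j', rfl⟩
          exact ⟨i + i', j + j', by
            rw [zpow_add, zpow_add, (cy.zpow_zpow i' j).mul_mul_mul_comm]⟩
        one_mem' := ⟨0, 0, by simp⟩
        inv_mem' := by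
          rintro _ ⟨i, j, rfl⟩
          exact ⟨-i, -j, by rw [mul_inv_rev, (cy.zpow_zpow _ _).eq, zpow_neg, zpow_neg]⟩ }
    obtain ⟨i, j, k⟩ := sq_mem_of_card (A := M) (R := R)
      (by rintro _ ⟨i, j, rfl⟩; exact mul_mem (zpow_mem a1R i) (zpow_mem (mul_mem bR bR) j)) (by
        rw [← (prod_iff (P := M) ⟨1, 0, by simp⟩ ⟨0, 1, by simp⟩ fun g h1 h2 =>
          dj g h1 (zpowers_le.2 (mul_mem (mem_zpowers b) (mem_zpowers b)) h2)).1 fun g k => k, cR, oa, oy]
        exact le_of_eq (by ring)) (mul_mem a1R bR)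
    exact ⟨i - 1, j - 1, by
      rw [sub_eq_neg_add i, zpow_add, zpow_sub_one, mul_assoc (a1 ^ _), ← mul_assoc (a1 ^ i), ← k]
      group⟩
  obtain ⟨z2, z1⟩ := half oa
  have za : a1 ^ 2 ^ (e + 1) ∈ zpowers a1 := pow_mem (mem_zpowers _) _
  generalize a1 ^ 2 ^ (e + 1) = z at z2 z1 za
  have zR := (hR _).1 (zpowers_le.2 a1R za)
  have zf : ¬ FP Ω z := fun k => z1 (sr1 z za k)
  obtain ⟨N, hN, No, hc⟩ := S0215.result S ⟨z, zR.2⟩
    (orderOf_eq_prime (Subtype.ext ((sq z).trans z2)) fun k => z1 (congrArg Subtype.val k))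
    ((hS _).2 zR.1) fun g hg => Subtype.ext (by
      have uR := (hR _).2 ⟨(hS _).1 hg, Subtype.property _⟩
      have u2 : (g : G) * z * (g : G)⁻¹ * (g * z * (g : G)⁻¹) = 1 := by
        rw [conj_mul, z2, mul_one, mul_inv_cancel]
      have uf : ¬ FP Ω ((g : G) * z * (g : G)⁻¹) := fun k => zf k.of_conj
      change (g : G) * z * (g : G)⁻¹ ∈ R at uR
      change (g : G) * z * (g : G)⁻¹ = z
      generalize (g : G) * z * (g : G)⁻¹ = v at uR u2 uf
      obtain ⟨i, j, rfl | rfl⟩ := frm v uR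
      · rw [(cy.zpow_zpow i j).symm.mul_mul_mul_comm, ← zpow_add, ← zpow_add] at u2
        obtain ⟨k1, k2⟩ := dj' _ _ u2
        rw [zpow_add] at k1 k2
        by_cases c1 : a1 ^ i = 1
        · exact (uf ⟨α, by rw [c1, one_mul, fb _ (yb j)]⟩).elim
        rw [inv_eq_z (zpow_mem (mem_zpowers a1) i) za k1 z2 c1 z1] at uf ⊢
        by_cases c2 : (b * b) ^ j = 1
        · rw [c2, mul_one]
        rw [inv_eq_z (yb j) tm k2 t2 c2 t1, mem_centralizer_singleton_iff.1 zR.2] at uf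
        exact (uf (fp_mul h hb w2 wa wb hw ht wf z2 zf (mem_centralizer_singleton_iff.1 zR.2))).elim
      · rw [sq_form cy hpq] at u2
        obtain ⟨k1, k2⟩ := dj' _ _ u2
        have hi : Odd i := by
          rw [← Int.not_even_iff_odd]
          intro hi
          have := odd_gen (oy ▸ pow_orderOf_eq_one (b * b)) ((hi.mul_left q).add (even_two_mul j)).add_one
          rw [k2, zpowers_one_eq_bot, mem_bot] at this
          rw [this, orderOf_one] at oy
          exact absurd oy (Nat.one_lt_two_pow (by omega)).ne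
        have k3 : a1 ^ (1 + p) = 1 := by
          have := odd_gen (x := a1 ^ (1 + p)) (n := e + 2) (by
            rw [← zpow_natCast, ← zpow_mul, mul_comm, zpow_mul, zpow_natCast, ← oa, pow_orderOf_eq_one,
              one_zpow]) hi
          rwa [← zpow_mul, k1, zpowers_one_eq_bot, mem_bot] at this
        obtain ⟨i', j', rfl | rfl⟩ := frm b' b'R
        · rw [(cy.zpow_zpow _ _).mul_pow, ← zpow_natCast ((b * b) ^ j'), ← zpow_mul, mul_comm j',
            zpow_mul, zpow_natCast, ← oy, pow_orderOf_eq_one, one_zpow, mul_one] at n2 n4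
          exact (n2 (sr1 _ (pow_mem (zpow_mem (mem_zpowers a1) i') _) n4)).elim
        · exact (nb (by rw [sq_form cy hpq, zpow_mul, k3, one_zpow, one_mul]; exact yb _)).elim)
  have Nf : ∀ n ∈ N, ∀ x : Fx Ω t, n • x = x := fun n hn x => by_contra fun k => by
    have : IsPretransitive N (Fx Ω t) := .of_orbit (x₀ := x) fun y => by
      by_cases c : y = x
      · exact ⟨1, c ▸ one_smul _ _⟩
      obtain ⟨c, c1, c2⟩ := tw x (n • x) x y (Ne.symm k) (Ne.symm c)
      exact ⟨⟨_, hN.conj_mem n hn c⟩, by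
        change (c * n * c⁻¹) • x = y
        rw [mul_smul, mul_smul, inv_smul_eq_iff.2 c1.symm, c2]⟩
    exact (Nat.not_even_iff_odd.2 No) (even_iff_two_dvd.2 (hF.even.trans
      (index_stabilizer_of_transitive N x ▸ (stabilizer N x).index_dvd_card)))
  have nz : α' ≠ (⟨z, zR.2⟩ : centralizer ({t} : Set G)) • α' := fun k =>
    zf ⟨α, (congrArg Subtype.val k).symm⟩
  obtain ⟨y, y1, y2⟩ : ∃ y, y ≠ α' ∧ y ≠ (⟨z, zR.2⟩ : centralizer ({t} : Set G)) • α' := by
    classical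
    have := Fintype.ofFinite (Fx Ω t)
    obtain ⟨y, -, hy⟩ := Finset.exists_mem_notMem_of_card_lt_card
      (s := {α', (⟨z, zR.2⟩ : centralizer ({t} : Set G)) • α'}) (t := .univ)
      (lt_of_le_of_lt Finset.card_le_two (by
        rw [Finset.card_univ, ← Nat.card_eq_fintype_card, he, pow_add]
        nlinarith [Nat.mul_pos (Nat.two_pow_pos e) ho.pos]))
    exact ⟨y, by simpa using hy⟩
  obtain ⟨c, c1, c2⟩ := tw _ _ _ _ nz y1.symm
  have := Nf _ (hc c) y
  rw [← c2, mul_smul, mul_smul, mul_smul, inv_smul_smul, inv_smul_smul, c1, c2] at this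
  exact y2 this.symm

end Cfsg.Agent.H89CZ
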