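import Cfsg.Agent.H89.CZC

/-! The induction. -/

set_option autoImplicit false
set_option linter.unusedSectionVars false

namespace Cfsg.Agent.H89CZ

open Subgroup MulAction

universe u

section

variable {G Ω : Type u} [Group G] [MulAction G Ω] [Finite G] [Finite Ω] (h : Hyp G Ω)
include h

theorem Hyp.exists_bs {α : Ω} {c : G} {k : ℕ} (h1 : c • α = α) (h2 : c ^ 2 ^ k = 1) :
    ∃ β b r, Bs G α β b r ∧ c ∈ zpowers b := by
  obtain ⟨r, o, ho, he⟩ := Nat.exists_eq_two_pow_mul_odd (Nat.card_pos (α := stabilizer G α)).ne'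
  obtain ⟨T, hT⟩ := (pg_z (u := (⟨c, h1⟩ : stabilizer G α)) (i := k) (Subtype.ext h2)).exists_le_sylow
  obtain ⟨β, hβ, hX⟩ := h.second (T.2.map (Subgroup.subtype _)) (map_subtype_le _)
  have := h.cyc α β hβ
  obtain ⟨b, hb⟩ := (Subgroup.isCyclic_iff_exists_zpowers_eq_top _).1
    (isCyclic_of_le (le_inf (map_subtype_le (T : Subgroup (stabilizer G α))) hX))
  have hm : b ∈ (T : Subgroup (stabilizer G α)).map (Subgroup.subtype _) := hb ▸ mem_zpowers b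
  exact ⟨β, b, r, ⟨hβ, by
    rw [← Nat.card_zpowers, hb, card_map_of_injective (subtype_injective _), card_syl T he ho],
    map_subtype_le _ hm, hX hm, o, ho, he⟩, hb ▸ ⟨_, hT (mem_zpowers _), rfl⟩⟩

theorem Hyp.trans1 [Nontrivial Ω] : IsPretransitive G Ω := ⟨fun x y => by
  obtain ⟨x', hx⟩ := exists_ne x
  obtain ⟨y', hy⟩ := exists_ne y
  exact (h.two x x' y y' hx.symm hy.symm).imp fun _ k => k.1⟩

theorem Hyp.exists_pr {α β : Ω} {b : G} {r : ℕ} (hb : Bs G α β b r) {a : G} {s o : ℕ}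
    (ha : orderOf a = 2 ^ s) (hn : Nat.card Ω = 2 ^ s * o) (ho : Odd o)
    (sr : ∀ g ∈ zpowers a, FP Ω g → g = 1) (P : Sylow 2 G) (bP : b ∈ P) :
    Nat.card P = 2 ^ (s + r) ∧ ∃ c : G, c * a * c⁻¹ ∈ P ∧ (∀ g ∈ zpowers (c * a * c⁻¹), FP Ω g → g = 1) ∧
      ∀ g ∈ (P : Subgroup G), ∃ i j : ℤ, g = (c * a * c⁻¹) ^ i * b ^ j := by
  have : Nontrivial Ω := ⟨_, _, hb.ne⟩
  have := h.trans1
  obtain ⟨o', ho', he⟩ := hb.card
  have cP := card_syl P (n := s + r) (o := o * o') (by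
    rw [← (stabilizer G α).index_mul_card, index_stabilizer_of_transitive, hn, he]; ring) (ho.mul ho')
  obtain ⟨c, hc⟩ := conj_into P (pg_z (ha ▸ pow_orderOf_eq_one a))
  have sr' : ∀ g ∈ zpowers (c * a * c⁻¹), FP Ω g → g = 1 := by
    rintro _ ⟨i, rfl⟩ k
    simp only [conj_zpow] at k ⊢
    rw [sr _ (zpow_mem (mem_zpowers a) i) k.of_conj, mul_one, mul_inv_cancel]
  refine ⟨cP, c, hc, sr', (prod_iff hc bP fun g h1 h2 => sr' g h1
    ⟨α, zpowers_le.2 (show b ∈ stabilizer G α from hb.fa) h2⟩).2 ?_⟩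
  rw [cP, pow_add, hb.ord, ← ha]
  exact congrArg (· * _) ((MulAut.conj c).orderOf_eq a)

end

theorem claim (n : ℕ) : ∀ (G Ω : Type u) [Group G] [MulAction G Ω] [Finite G] [Finite Ω],
    Nat.card Ω = n → Hyp G Ω → Claim G Ω := by
  induction n using Nat.strong_induction_on with
  | _ n IH =>
  intro G Ω _ _ _ _ hn h a s o ha hΩ ho sr c k ⟨α, cα⟩ ck
  by_contra c2
  obtain ⟨β, b, r, hb, i, hi⟩ := h.exists_bs cα ck
  obtain ⟨r, rfl⟩ : ∃ r', r = r' + 2 := Nat.exists_eq_add_of_le' (by_contra fun k => c2 (by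
    have : b ^ 2 = 1 := orderOf_dvd_iff_pow_eq_one.1 (hb.ord ▸ pow_dvd_pow 2 (show r ≤ 1 by omega))
    rw [← hi, ← sq]
    simp only
    rw [← zpow_natCast, ← zpow_mul, mul_comm, zpow_mul, zpow_natCast, this, one_zpow]))
  obtain ⟨t2, t1⟩ := half hb.ord
  obtain ⟨g0, wa, wb⟩ := exists_swap h hb.ne t2 t1
  have w2 : g0 * b ^ 2 ^ (r + 1) * g0⁻¹ * (g0 * b ^ 2 ^ (r + 1) * g0⁻¹) = 1 := by
    rw [conj_mul, t2, mul_one, mul_inv_cancel]
  obtain ⟨S, hS⟩ := (pg_z (u := (⟨b, mem_centralizer_singleton_iff.2 (Commute.self_pow b _)⟩ :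
    centralizer ({b ^ 2 ^ (r + 1)} : Set G))) (i := r + 2) (Subtype.ext hb.pow)).exists_le_sylow
  obtain ⟨P, hP⟩ := (S.2.map (Subgroup.subtype _)).exists_le_sylow
  have bP : b ∈ P := hP ⟨_, hS (mem_zpowers _), rfl⟩
  obtain ⟨-, d, aP, sr', pr⟩ := h.exists_pr hb ha hΩ ho sr P bP
  obtain ⟨z2, z1⟩ := half ha
  obtain ⟨g1, za, zb⟩ := exists_swap h hb.ne z2 z1
  rcases h.dich hb w2 wa wb (by omega)
    (FP.conj ⟨α, pow_mem (show b ∈ stabilizer G α from hb.fa) _⟩ _)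
    (by rw [conj_mul, z2, mul_one, mul_inv_cancel]) za zb
    (fun k => z1 (sr _ (pow_mem (mem_zpowers a) _) k.of_conj)) with hw | hw
  · exact caseA h hb w2 wa wb (((MulAut.conj d).orderOf_eq a).trans ha) sr' P.2 aP bP pr hw
  · refine caseB h hb w2 wa wb hw rfl rfl sr' pr bP S (fun c => ⟨fun k => hP ⟨c, k, rfl⟩, fun k => ?_⟩)
      (IH _ ?_ _ _ rfl (h.fx t2 t1))
    · have := S.3 (P.2.comap_of_injective _ (subtype_injective _)) (map_le_iff_le_comap.1 hP)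
      exact (this ▸ k : c ∈ (S : Subgroup _))
    · obtain ⟨x, hx⟩ := not_forall.1 fun k => t1 (h.faith _ k)
      exact hn ▸ Finite.card_subtype_lt (x := x) hx

/-- a Sylow 2-subgroup has a cyclic subgroup of index at most two -/
theorem Hyp.index_two {G Ω : Type u} [Group G] [MulAction G Ω] [Finite G] [Finite Ω] (h : Hyp G Ω)
    {a : G} {s o : ℕ} (ha : orderOf a = 2 ^ s) (hn : Nat.card Ω = 2 ^ s * o) (ho : Odd o)
    (sr : ∀ g ∈ zpowers a, FP Ω g → g = 1) (α : Ω) (P : Sylow 2 G) :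
    ∃ y ∈ P, Nat.card P ≤ 2 * orderOf y := by
  obtain ⟨β, b, r, hb, -⟩ := h.exists_bs (α := α) (k := 0) (one_smul _ _) (one_pow _)
  obtain ⟨Q, hQ⟩ := (pg_z hb.pow).exists_le_sylow
  obtain ⟨cQ, -⟩ := h.exists_pr hb ha hn ho sr Q (hQ (mem_zpowers b))
  rw [Nat.card_congr (Q.equiv P).toEquiv] at cQ
  rw [cQ]
  by_cases hs : s ≤ 1
  · obtain ⟨c, hc⟩ := conj_into P (pg_z hb.pow)
    exact ⟨_, hc, by
      rw [show orderOf (c * b * c⁻¹) = _ from (MulAut.conj c).orderOf_eq b, hb.ord, ← pow_succ']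
      exact Nat.pow_le_pow_right two_pos (by omega)⟩
  obtain ⟨s, rfl⟩ : ∃ s', s = s' + 2 := ⟨s - 2, by omega⟩
  obtain ⟨c, hc⟩ := conj_into P (pg_z (ha ▸ pow_orderOf_eq_one a))
  have := orderOf_le_of_pow_eq_one two_pos ((sq b).trans
    (claim _ G Ω rfl h a s o ha hn ho sr b r ⟨α, hb.fa⟩ hb.pow))
  exact ⟨_, hc, by
    rw [show orderOf (c * a * c⁻¹) = _ from (MulAut.conj c).orderOf_eq a, ha, pow_add 2 _ r, mul_comm]
    exact Nat.mul_le_mul_right _ (hb.ord ▸ this)⟩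

end Cfsg.Agent.H89CZ
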