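import Cfsg.Agent.H89.CZD
import Cfsg.Agent.H22.GWSimple
import Cfsg.Agent.H7.PGBad

/-! Simple groups inside groups whose Sylow 2-subgroup has a cyclic subgroup of index two. -/

set_option autoImplicit false
set_option linter.unusedSectionVars false

namespace Cfsg.Agent.H89CZ

open Subgroup MulAction

universe u

theorem comm_or_inv {G : Type*} [Group G] [Finite G] {P : Subgroup G} (hP : IsPGroup 2 P) {y v : G}
    (hy : y ∈ P) (hc : Nat.card P ≤ 2 * orderOf y) (hv : v ∈ P) :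
    v * y ^ 2 * v⁻¹ = y ^ 2 ∨ v * y ^ 2 * v⁻¹ = (y ^ 2)⁻¹ := by
  have sq : ∀ g ∈ P, g * g ∈ zpowers y := fun g hg =>
    sq_mem_of_card (zpowers_le.2 hy) (by rwa [Nat.card_zpowers]) hg
  obtain ⟨d, hd⟩ := mul_mem (mul_mem (sq _ (mul_mem hv hy)) (inv_mem (mem_zpowers y))) (inv_mem (sq v hv))
  have hd' : v * y * v⁻¹ = y ^ d := Eq.trans (by group) hd.symm
  have h2 : y ^ (d * d - 1) = 1 := by
    rw [zpow_sub_one, zpow_mul, ← hd', conj_zpow, ← hd', mul_inv_eq_one]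
    calc _ = v * v * y * (v * v)⁻¹ := by group
      _ = y := by rw [H42.comm_of_mem_zpowers (sq v hv) (mem_zpowers y), mul_inv_cancel_right]
  obtain ⟨n, hn⟩ := hP ⟨y, hy⟩
  have key : ∀ a b : ℤ, Odd b → a * b = d * d - 1 → y ^ a = 1 := fun a b hb e => by
    have := odd_gen (x := y ^ a) (n := n) (by
      rw [← zpow_natCast, ← zpow_mul, mul_comm, zpow_mul, zpow_natCast,
        show y ^ 2 ^ n = 1 from congrArg Subtype.val hn, one_zpow]) hb
    rwa [← zpow_mul, e, h2, zpowers_one_eq_bot, mem_bot] at this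
  rw [← conj_pow, hd', ← zpow_natCast, ← zpow_natCast, ← zpow_mul, ← zpow_neg]
  rcases Int.even_or_odd' d with ⟨c, rfl | rfl⟩
  · have := key 1 _ ⟨2 * c * c - 1, rfl⟩ (by ring)
    rw [zpow_one] at this
    simp [this]
  rcases Int.even_or_odd c with k | k
  · exact Or.inl (by rw [← mul_inv_eq_one, ← zpow_sub, ← key (4 * c) _ k.add_one (by ring)]; congr 1; ring)
  · exact Or.inr (by
      rw [← mul_inv_eq_one, ← zpow_sub, ← key (4 * (c + 1)) _ k (by ring)]; congr 1; ring)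

variable {X : Type u} [Group X] [Finite X] (hs : IsSimpleGroup X) (hn : ¬ IsMulCommutative X)
include hs hn

theorem no_iso (T : Sylow 2 X) {u : X} (u2 : u * u = 1) (u1 : u ≠ 1) (hu : u ∈ T)
    (h : ∀ g : X, g * u * g⁻¹ ∈ T → g * u * g⁻¹ = u) : False := by
  have o : orderOf u = 2 := orderOf_eq_prime ((sq u).trans u2) u1
  obtain ⟨N, hN, No, hc⟩ := S0215.result T u o hu h
  rcases hN.eq_bot_or_eq_top with rfl | rfl
  · have : u ∈ center X := mem_center_iff.2 fun g => by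
      have := mem_bot.1 (hc g)
      rw [mul_inv_eq_one, mul_inv_eq_iff_eq_mul] at this
      exact this.symm
    rcases (inferInstance : (center X).Normal).eq_bot_or_eq_top with e | e
    · exact u1 (mem_bot.1 (e ▸ this))
    · exact hn ⟨⟨fun a b => mem_center_iff.1 (e ▸ mem_top b : b ∈ center X) a⟩⟩
  · exact absurd (o ▸ H23.odd_orderOf_of_mem No (mem_top u)) (by decide)

theorem not_solv : ¬ Group.IsSolvable X := fun _ =>
  hn ⟨⟨IsSimpleGroup.comm_iff_isSolvable.2 inferInstance⟩⟩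

theorem dih {G : Type*} [Group G] [Finite G] (ι : X →* G) (hι : Function.Injective ι) (T : Sylow 2 X)
    {P : Subgroup G} (hP : IsPGroup 2 P) {y : G} (hy : y ∈ P) (hc : Nat.card P ≤ 2 * orderOf y)
    (hT : (T : Subgroup X).map ι < P) : ∃ n, Nonempty ((T : Subgroup X) ≃* DihedralGroup n) := by
  have TP : ∀ x ∈ (T : Subgroup X), ι x ∈ P := fun x hx => hT.le ⟨x, hx, rfl⟩
  obtain ⟨c', c1, ⟨c, cT, rfl⟩, c3⟩ := gen_inf ((T : Subgroup X).map ι) y
  have c4 : ∀ x ∈ (T : Subgroup X), ι x ∈ zpowers y → x ∈ zpowers c := fun x hx h => by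
    obtain ⟨i, hi⟩ := c3 _ h ⟨x, hx, rfl⟩
    exact ⟨i, hι ((map_zpow ι c i).trans hi)⟩
  by_cases hv : ∃ v ∈ (T : Subgroup X), v * v = 1 ∧ ι v ∉ zpowers y
  swap
  · push Not at hv
    obtain ⟨u, hu⟩ := exists_prime_orderOf_dvd_card' (G := X) 2 (by_contra fun k =>
      not_solv hs hn (S0205.result (Nat.odd_iff.2 (by omega))))
    have u2 : ∀ g : X, g * u * g⁻¹ * (g * u * g⁻¹) = 1 := fun g => by
      rw [conj_mul, ← sq, ← hu, pow_orderOf_eq_one, mul_one, mul_inv_cancel]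
    have u1 : u ≠ 1 := fun e => by simp [e] at hu
    obtain ⟨g, hg⟩ := conj_into T (pg_z (u := u) (i := 1) (by rw [pow_one, ← hu, pow_orderOf_eq_one]))
    exact (no_iso hs hn T (u2 g) (by simpa using u1) hg fun k hk => by
      have e : k * (g * u * g⁻¹) * k⁻¹ = k * g * u * (k * g)⁻¹ := by group
      rw [e] at hk ⊢
      exact inv_eq_z (c4 _ hk (hv _ hk (u2 _))) (c4 _ hg (hv _ hg (u2 _))) (u2 _) (u2 _)
        (by simpa only [Ne, conj_eq_one_iff] using u1) (by simpa using u1)).elim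
  obtain ⟨v, vT, v2, vy⟩ := hv
  have ri : (zpowers y).relIndex P = 2 := by
    have h1 := H49.card_mul_relIndex (zpowers_le.2 hy)
    rw [Nat.card_zpowers] at h1
    have h2 : (zpowers y).relIndex P ≤ 2 :=
      Nat.le_of_mul_le_mul_left (by rwa [h1, mul_comm]) (orderOf_pos y)
    have h3 : (zpowers y).relIndex P ≠ 0 := FiniteIndex.index_ne_zero
    have h4 : (zpowers y).relIndex P ≠ 1 := fun e => vy (relIndex_eq_one.1 e (TP v vT))
    omega
  have vc : v ∉ zpowers c := fun k => vy (zpowers_le.2 c1 (by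
    rw [← MonoidHom.map_zpowers]; exact ⟨v, k, rfl⟩))
  have frm : ∀ x ∈ (T : Subgroup X), x ∈ zpowers c ∨ x * v⁻¹ ∈ zpowers c := fun x hx =>
    (em (ι x ∈ zpowers y)).imp (c4 x hx) fun k => c4 _ (mul_mem hx (inv_mem vT)) (by
      rw [map_mul, map_inv]; exact H42.mul_inv_mem_of_relIndex_two ri (TP x hx) (TP v vT) k vy)
  obtain ⟨i, hi⟩ : ι c ∈ zpowers (y ^ 2) := by
    obtain ⟨i, hi⟩ := c1
    rcases Int.even_or_odd' i with ⟨j, rfl | rfl⟩
    · exact ⟨j, by rw [← hi]; simp only; rw [zpow_mul]; norm_cast⟩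
    obtain ⟨n, hn⟩ := hP ⟨y, hy⟩
    have := odd_gen (x := y) (congrArg Subtype.val hn) ⟨j, rfl⟩
    exact (hT.not_ge (H42.le_of_inf_le_of_relIndex_two ri le_rfl (TP v vT) vy ⟨v, vT, rfl⟩
      (inf_le_right.trans (zpowers_le.2 (zpowers_le.2 (show y ^ (2 * j + 1) ∈ (T : Subgroup X).map ι
        from ⟨c, cT, hi.symm⟩) this))))).elim
  have hi' : (y ^ 2) ^ i = ι c := hi
  have fin : v * c * v⁻¹ = c⁻¹ → ∃ n, Nonempty ((T : Subgroup X) ≃* DihedralGroup n) := fun k => by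
    rw [show (T : Subgroup X) = zpowers c ⊔ zpowers v from le_antisymm (fun x hx => (frm x hx).elim
      mem_sup_left fun k => inv_mul_cancel_right x v ▸ mul_mem_sup k (mem_zpowers v))
      (sup_le (zpowers_le.2 cT) (zpowers_le.2 vT))]
    exact ⟨_, H42.dihedral_recog (orderOf_pos c).ne' rfl v2 k vc⟩
  rcases comm_or_inv hP hy hc (TP v vT) with k | k
  swap
  · exact fin (hι (by rw [map_mul, map_mul, map_inv, map_inv, ← hi', ← conj_zpow, k, inv_zpow]))
  have cv : Commute v c := mul_inv_eq_iff_eq_mul.1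
    (hι (by rw [map_mul, map_mul, map_inv, ← hi', ← conj_zpow, k]))
  by_cases c2 : c * c = 1
  · exact fin (by rw [cv.eq, mul_inv_cancel_right, eq_inv_iff_mul_eq_one, c2])
  have cm : ∀ x ∈ (T : Subgroup X), Commute x c ∧ x * x ∈ zpowers c := fun x hx => by
    rcases frm x hx with ⟨j, rfl⟩ | ⟨j, e⟩
    · exact ⟨Commute.zpow_self c j, mul_mem ⟨j, rfl⟩ ⟨j, rfl⟩⟩
    · obtain rfl : x = c ^ j * v := (mul_inv_eq_iff_eq_mul.1 e.symm)
      exact ⟨(Commute.zpow_self c j).mul_left cv, by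
        rw [(cv.zpow_right j).mul_mul_mul_comm, v2, mul_one]
        exact mul_mem ⟨j, rfl⟩ ⟨j, rfl⟩⟩
  obtain ⟨n, hn'⟩ := T.2 ⟨c * c, mul_mem cT cT⟩
  obtain ⟨j, j1, j2⟩ := exists_inv (d := c * c) (congrArg Subtype.val hn') c2
  have zc : ∀ z ∈ zpowers c, z ∈ centralizer (T : Set X) := by
    rintro _ ⟨i, rfl⟩ x hx
    exact ((cm x hx).1.zpow_right i).eq
  have jc : (c * c) ^ j ∈ zpowers c := pow_mem (mul_mem (mem_zpowers c) (mem_zpowers c)) j
  refine (no_iso hs hn T j2 j1 (pow_mem (mul_mem cT cT) j) fun g hg => ?_).elim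
  obtain ⟨m, hm, e⟩ := T.conj_eq_normalizer_conj_of_mem_centralizer _ g⁻¹ (zc _ jc) (by
    rw [inv_inv]
    intro x hx
    rcases frm x hx with ⟨l, rfl⟩ | ⟨l, e⟩
    · exact ((cm _ hg).1.zpow_right l).eq.symm
    · obtain rfl : x = c ^ l * v := (mul_inv_eq_iff_eq_mul.1 e.symm)
      refine (((cm _ hg).1.zpow_right l).mul_right ?_).eq.symm
      rcases frm _ hg with ⟨l, e⟩ | ⟨l, e⟩
      · exact e ▸ (cv.zpow_right l).symm
      · exact mul_inv_eq_iff_eq_mul.1 e.symm ▸ (cv.zpow_right l).symm.mul_left (Commute.refl v))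
  rw [inv_inv] at e
  refine inv_eq_z ?_ jc (by rw [conj_mul, j2, mul_one, mul_inv_cancel]) j2 (by simpa using j1) j1
  have := pow_mem (cm _ ((mem_normalizer_iff.1 (inv_mem hm) c).1 cT)).2 j
  rwa [conj_mul, conj_pow, inv_inv, ← e] at this

omit hs hn in
theorem conj_inv_Z [IsZGroup X] {u v : X} (u2 : u * u = 1) (v2 : v * v = 1) (u1 : u ≠ 1) (v1 : v ≠ 1) :
    ∃ g : X, g * u * g⁻¹ = v := by
  obtain ⟨T⟩ : Nonempty (Sylow 2 X) := inferInstance
  obtain ⟨g, hg⟩ := conj_into T (pg_z (u := u) (i := 1) (by rwa [pow_one, sq]))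
  obtain ⟨k, hk⟩ := conj_into T (pg_z (u := v) (i := 1) (by rwa [pow_one, sq]))
  obtain ⟨c, hc⟩ := (Subgroup.isCyclic_iff_exists_zpowers_eq_top (T : Subgroup X)).1 inferInstance
  have := inv_eq_z (hc.ge hg) (hc.ge hk)
    (by rw [conj_mul, u2, mul_one, mul_inv_cancel]) (by rw [conj_mul, v2, mul_one, mul_inv_cancel])
    (by simpa using u1) (by simpa using v1)
  exact ⟨k⁻¹ * g, by rw [show k⁻¹ * g * u * (k⁻¹ * g)⁻¹ = k⁻¹ * (g * u * g⁻¹) * k by group, this]; group⟩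

omit hs hn in
theorem psl_prime {Ω : Type*} [Finite Ω] [MulAction X Ω] [IsPretransitive X Ω] {F : Type} [Field F]
    [Fintype F] (h1 : Odd (Fintype.card F)) (h2 : 3 < Fintype.card F)
    (e : X ≃* Matrix.ProjectiveSpecialLinearGroup (Fin 2) F) (α : Ω) [IsZGroup (stabilizer X α)]
    {x : X} (x1 : x ≠ 1) (hx : ∀ g : X, g * x * g⁻¹ ∈ zpowers x ↔ g • α = α)
    (hi : ∀ t : X, t * t = 1 → t ≠ 1 → t • α = α → ∀ y : Ω,
      ∃ u : X, u * u = 1 ∧ u ≠ 1 ∧ u • α = α ∧ u • y = y) :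
    (Fintype.card F).Prime := by
  obtain ⟨Γ, _, _, L, P, tor, τ, m, p, ψ, h, hq, inj, rfl, -, cX, cC, -⟩ := H22.exists_pg_hom h1 h2 e
  have xP : ψ x ∈ P := h.L_le ⟨x, rfl⟩
  have x1' : ψ x ≠ 1 := by rwa [Ne, map_eq_one_iff _ inj]
  have nz : ∀ g : X, ψ g ∈ normalizer (zpowers (ψ x) : Set Γ) ↔ g • α = α := fun g => by
    rw [← hx]
    refine ⟨fun k => ?_, fun ⟨i, k⟩ => mem_normalizer_fintype ?_⟩
    · obtain ⟨i, hi⟩ := (mem_normalizer_iff.1 k (ψ x)).1 (mem_zpowers _)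
      exact ⟨i, inj (by simpa using hi)⟩
    · rintro _ ⟨j, rfl⟩
      exact ⟨i * j, by
        simp only at k ⊢
        rw [zpow_mul, ← map_zpow, k, ← conj_zpow, map_mul, map_mul, map_inv]⟩
  rcases h.uni_or_inv _ xP x1' with k | ⟨t0, k, t2, t1⟩
  · have := Fact.mk h.p_prime
    have hp : IsPGroup p (tor (ψ x)) := fun g => ⟨1, Subtype.ext (by simpa using k g g.2)⟩
    obtain ⟨Q, hQ, hQ'⟩ := H49.exists_sylowOf_ge (H49.isPi_of_isPGroup h.p_prime hp) (h.tor_le _ xP)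
    have cQ := H7.PG_card_syl h hQ
    rw [← H7.PG_tor_syl h hQ (hQ' (h.self_mem _ xP)) x1', hq] at cQ
    have le : tor (ψ x) ≤ (stabilizer X α).map ψ := fun y hy => by
      obtain ⟨g, rfl⟩ := h.mem_L_of_odd (h.tor_le _ xP hy)
        ((h.p_prime.odd_of_ne_two h.p_ne).of_dvd_nat (orderOf_dvd_of_pow_eq_one (k y hy)))
      exact ⟨g, (hx g).1 (by
        rw [mul_inv_eq_of_eq_mul (inj (by rw [map_mul, map_mul, h.comm_of_mem _ xP _ hy]))]
        exact mem_zpowers x), rfl⟩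
    have : IsZGroup ((stabilizer X α).map ψ) := .of_surjective (ψ.subgroupMap_surjective _)
    have : IsZGroup (tor (ψ x)) := .of_injective (inclusion_injective le)
    have := IsPGroup.isCyclic_of_isZGroup (P := ⊤) (hp.to_subgroup ⊤)
    obtain ⟨g, hg⟩ := (Subgroup.isCyclic_iff_exists_zpowers_eq_top (tor (ψ x))).1
      (isCyclic_of_surjective _ topEquiv.surjective)
    have := orderOf_dvd_of_pow_eq_one (k g (hg.le (mem_zpowers g)))
    rw [← Nat.card_zpowers, hg, cQ] at this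
    rcases (Nat.dvd_prime h.p_prime).1 this with k | k
    · omega
    · exact k ▸ h.p_prime
  exfalso
  have tP := h.tor_le _ xP k
  rw [h.normalizer_eq tP t2 t1 (zpowers_le.2 (by rw [h.tor_eq _ xP x1' _ k t1]; exact h.self_mem _ xP))
    (by simpa using x1')] at nz
  have cS : Nat.card (stabilizer X α) ≤ 2 * τ ∨ Nat.card (stabilizer X α) ≤ 2 * m := by
    have := card_le_of_le (show (stabilizer X α).map ψ ≤ centralizer {t0} ⊓ ψ.range by
      rintro _ ⟨g, hg, rfl⟩; exact ⟨(nz g).2 hg, g, rfl⟩)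
    rw [card_map_of_injective inj, h.card_centralizer_L tP t2 t1] at this
    by_cases c : t0 ∈ ψ.range
    · exact Or.inl (h.card_T_of_mem tP t2 t1 c ▸ this)
    · exact Or.inr (h.card_T_of_not_mem tP t2 t1 c ▸ this)
  obtain ⟨_, ⟨t, rfl⟩, s2, s1, -, sc⟩ := h.exists_inv_ne tP t2 t1
  have ta : t ∈ stabilizer X α := (nz t).1 (mem_centralizer_singleton_iff.2 sc)
  rw [← map_mul, map_eq_one_iff _ inj] at s2
  rw [Ne, map_eq_one_iff _ inj] at s1
  have ot : orderOf t = 2 := orderOf_eq_prime ((sq t).trans s2) s1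
  have cj : ∀ u : X, u * u = 1 → u ≠ 1 → u • α = α → ∃ g : stabilizer X α, g * t * (g : X)⁻¹ = u :=
    fun u u2 u1 ua => (conj_inv_Z (u := (⟨t, ta⟩ : stabilizer X α)) (v := ⟨u, ua⟩) (Subtype.ext s2)
      (Subtype.ext u2) (fun k => s1 (congrArg Subtype.val k)) fun k => u1 (congrArg Subtype.val k)).imp
        fun _ k => congrArg Subtype.val k
  let Z1 := zpowers (⟨t, ta⟩ : stabilizer X α)
  let Z2 := zpowers (⟨t, mem_centralizer_singleton_iff.2 rfl⟩ : centralizer ({t} : Set X))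
  have c1 := Z1.index_mul_card
  have c2 := Z2.index_mul_card
  rw [Nat.card_zpowers, orderOf_mk, ot] at c1 c2
  have c3 := Nat.card_le_card_of_surjective (fun p : (_ ⧸ Z1) × (_ ⧸ Z2) =>
      (p.1.out : X) • (p.2.out : X) • α) fun y => by
    obtain ⟨u, u2, u1, ua, uy⟩ := hi t s2 s1 ta y
    obtain ⟨s, rfl⟩ := cj u u2 u1 ua
    obtain ⟨n, hn⟩ := exists_smul_eq X α ((s : X)⁻¹ • y)
    obtain ⟨s', hs'⟩ := cj (n⁻¹ * t * n⁻¹⁻¹) (by rw [conj_mul, s2, mul_one, mul_inv_cancel])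
      (by simpa only [Ne, conj_eq_one_iff] using s1) (by
        rw [inv_inv, mul_smul, mul_smul, hn, inv_smul_eq_iff, hn, eq_inv_smul_iff, ← mul_smul, ← mul_smul, uy])
    let c : centralizer ({t} : Set X) := ⟨n * s', mem_centralizer_singleton_iff.2 (by
      rw [mul_assoc, mul_inv_eq_iff_eq_mul.1 hs']; group)⟩
    obtain ⟨⟨_, i, rfl⟩, hi⟩ := QuotientGroup.mk_out_eq_mul Z1 s
    obtain ⟨⟨_, j, rfl⟩, hj⟩ := QuotientGroup.mk_out_eq_mul Z2 c
    have f : ∀ i : ℤ, t ^ i • α = α := fun i => zpow_mem ta i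
    refine ⟨(s, c), ?_⟩
    simp only [hi, hj, coe_mul, SubgroupClass.coe_zpow]
    rw [mul_smul (c : X), f, mul_smul, ← mul_smul (t ^ i),
      ← ((show Commute (c : X) t from mem_centralizer_singleton_iff.1 c.2).zpow_right i).eq, mul_smul, f,
      mul_smul, show (s' : X) • α = α from s'.2, hn, smul_inv_smul]
  rw [Nat.card_prod, ← index_eq_card, ← index_eq_card] at c3
  have c4 := (stabilizer X α).index_mul_card
  rw [index_stabilizer_of_transitive, cX, ← c1] at c4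
  rw [cC t ot] at c2
  rw [← c1] at cS
  have := h.near
  have := h.three_le
  have := h.two_le
  obtain rfl : τ = Z2.index := by omega
  have c5 : m * (Z2.index + m) ≤ Z1.index * Z1.index := Nat.le_of_mul_le_mul_left (c := 2 * Z2.index)
    (by nlinarith [Nat.mul_le_mul_right (Z1.index * 2) c3]) (by omega)
  have c6 : Z1.index * Z1.index ≤ (m + 1) * Z2.index ∨ Z1.index * Z1.index ≤ m * m :=
    cS.imp (fun k => Nat.mul_le_mul (by omega) (by omega)) fun k => Nat.mul_le_mul (by omega) (by omega)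
  have : Z2.index ≤ m + 1 := by omega
  rcases c6 with k | k <;> nlinarith

end Cfsg.Agent.H89CZ
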