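import Cfsg.Agent.H89.InvOver
import Cfsg.Agent.H88.Deg

/-! Counting irreducible characters of degree coprime to a complement. -/

set_option autoImplicit false
set_option linter.style.haveILetI false
set_option linter.unusedSectionVars false

namespace Cfsg.Agent.H89

open Cfsg Cfsg.Agent.H5 Subgroup
open scoped ComplexConjugate

/-- Transport of irreducible characters along an isomorphism. -/
def irrCongr {A B : Type*} [Group A] [Group B] (e : A ≃* B) : IrrCharacter B ≃ IrrCharacter A where
  toFun θ := ⟨fun a => (θ : B → ℂ) (e a), isIrrCharacter_comp_equiv θ.2 e⟩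
  invFun θ := ⟨fun b => (θ : A → ℂ) (e.symm b), isIrrCharacter_comp_equiv θ.2 e.symm⟩
  left_inv θ := Subtype.ext (funext fun b => by simp)
  right_inv θ := Subtype.ext (funext fun b => by simp)

theorem card_irr_congr {A B : Type*} [Group A] [Group B] (e : A ≃* B) :
    Nat.card (IrrCharacter A) = Nat.card (IrrCharacter B) := (Nat.card_congr (irrCongr e)).symm

theorem card_hom_congr {A B : Type*} [Group A] [Group B] (e : A ≃* B) :
    Nat.card (A →* ℂˣ) = Nat.card (B →* ℂˣ) := Nat.card_congr e.monoidHomCongrLeftEquiv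

variable {X : Type*} [Group X] [Finite X]

theorem card_homTriv_of_complement (K H : Subgroup X) [K.Normal] (h : IsComplement' K H) :
    Nat.card (homTriv K) = Nat.card (H →* ℂˣ) := by
  rw [Nat.card_congr (homTrivEquiv K), card_hom_congr h.symm.QuotientMulEquiv]

/-- A character of degree coprime to the index of a normal subgroup restricts homogeneously. -/
theorem invariant_of_coprime_degree (K : Subgroup X) [hK : K.Normal] [Fintype K] {χ : X → ℂ}
    (hχ : IsIrrCharacter X χ) (hcop : (charDegree χ).Coprime K.index) {θ : K → ℂ}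
    (hθ : IsIrrCharacter K θ) (h : classInner (fun k : K => χ k) θ ≠ 0) (g : X) (k : K) :
    θ ⟨g * k * g⁻¹, hK.conj_mem _ k.2 g⟩ = θ k := by
  letI : Fintype X := Fintype.ofFinite _
  have h1 := H6.clifford_degree K hχ hθ h
  obtain ⟨e, he⟩ := exists_nat_classInner (isCharacter_restrict (isCharacter_of_isIrr hχ) K)
    (isCharacter_of_isIrr hθ)
  obtain ⟨d, -, hd⟩ := exists_pos_nat_degree hθ
  rw [he, hd] at h1
  have h2 : charDegree χ = e * (H6.inertia K θ).index * d :=
    H88.charDegree_eq_of_eq (by rw [h1]; push_cast; ring)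
  have h3 : (H6.inertia K θ).index = 1 :=
    Nat.eq_one_of_dvd_coprimes hcop (h2 ▸ (Dvd.intro_left e rfl).mul_right d)
      (index_dvd_of_le (H6.le_inertia K (isClassFunction_of_isIrr hθ)))
  rw [index_eq_one] at h3
  exact (H6.mem_inertia_iff K).1 (h3 ▸ mem_top g) k

theorem card_coprime_degree (K H : Subgroup X) [hK : K.Normal] (hKH : K ⊔ H = ⊤)
    (hcop : (Nat.card K).Coprime (Nat.card H)) :
    Nat.card {χ : IrrCharacter X // (charDegree (χ : X → ℂ)).Coprime (Nat.card H)} =
      Nat.card {θ : IrrCharacter K // SInv H K θ} * Nat.card (H →* ℂˣ) := by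
  letI : Fintype X := Fintype.ofFinite _
  letI : Fintype K := Fintype.ofFinite _
  have hidx := index_eq_card_of_sup K H hcop hKH
  have hr : K.subtype.range = K := range_subtype K
  have hex : ∀ θ : {θ : IrrCharacter K // SInv H K θ}, ∃ ψ : IrrCharacter X,
      ∀ k : K, (ψ : X → ℂ) k = (θ.1 : K → ℂ) k := fun θ => by
    obtain ⟨ψ, h1, h2, -⟩ := exists_canon_ext K.subtype K.subtype_injective (by rwa [hr])
      (by rw [hr, hidx]; exact hcop.symm) θ.1.2
      (inv_of_inv_gen K.subtype K.subtype_injective (by rwa [hr]) (by rwa [hr])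
        (isClassFunction_of_isIrr θ.1.2) θ.2)
    exact ⟨⟨ψ, h1⟩, h2⟩
  choose ext hext using hex
  have hirr : ∀ θ, IsIrrCharacter K fun k : K => (ext θ : X → ℂ) k := fun θ => by
    rw [funext (hext θ)]; exact θ.1.2
  rw [← card_homTriv_of_complement K H (H2.isComplement'_of_normal_of_sup_of_inf K H hKH
    (disjoint_of_coprime_natCard hcop).eq_bot), ← Nat.card_prod]
  have hdeg : ∀ x : {θ : IrrCharacter K // SInv H K θ} × homTriv K,
      (charDegree (mulPerm X x.2.1 (ext x.1) : X → ℂ)).Coprime (Nat.card H) := fun x => by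
    obtain ⟨d, -, hd⟩ := exists_pos_nat_degree x.1.1.2
    rw [H88.charDegree_eq_of_eq (n := d) (by
      rw [mulPerm_apply, map_one, Units.val_one, one_mul, ← hd, ← hext]; rfl)]
    exact hcop.coprime_dvd_left (degree_dvd_card x.1.1.2 hd)
  refine (Nat.card_congr (Equiv.ofBijective (fun x => ⟨mulPerm X x.2.1 (ext x.1), hdeg x⟩)
    ⟨?_, ?_⟩)).symm
  · rintro ⟨θ, lam⟩ ⟨θ', lam'⟩ h
    have h1 := congrArg (fun χ => (χ.1 : X → ℂ)) h
    have h2 : θ = θ' := Subtype.ext (Subtype.ext (funext fun k => by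
      have := congrFun h1 k
      simpa [mulPerm_apply, lam.2 k k.2, lam'.2 k k.2, hext] using this))
    subst h2
    have h3 := H30.eq_of_mul_eq_mul_of_ker K (isCharacter_of_isIrr (ext θ).2) (hirr θ)
      (isIrrCharacter_monoidHom lam.1) (fun n hn => by simp [lam.2 n hn])
      (isIrrCharacter_monoidHom lam'.1) (fun n hn => by simp [lam'.2 n hn]) h1
    exact Prod.ext rfl (Subtype.ext (MonoidHom.ext fun g => Units.ext (congrFun h3 g)))
  · rintro ⟨χ, hχ⟩
    obtain ⟨θ, hθ, h⟩ := exists_irr_constituent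
      (isCharacter_restrict (isCharacter_of_isIrr χ.2) K)
      (fun h => degree_ne_zero χ.2 (congrFun h 1))
    have hinv := invariant_of_coprime_degree K χ.2 (hidx ▸ hχ) hθ h
    let θ' : {θ : IrrCharacter K // SInv H K θ} := ⟨⟨θ, hθ⟩, fun s _ g g' e =>
      (congrArg θ (Subtype.ext e)).trans (hinv s g)⟩
    obtain ⟨β, hβ, e⟩ := H30.exists_eq_mul_quotient_of_over K hθ
      (isCharacter_of_isIrr (ext θ').2) (hext θ') χ.2 h
    obtain ⟨b, -, hb⟩ := exists_pos_nat_degree hβ
    obtain ⟨d, -, hd⟩ := exists_pos_nat_degree (ext θ').2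
    have h1 : charDegree (χ : X → ℂ) = b * d := H88.charDegree_eq_of_eq (by
      rw [e]; simp [hb, hd])
    have h2 : b = 1 := Nat.eq_one_of_dvd_coprimes hχ (h1 ▸ Dvd.intro _ rfl)
      (hidx ▸ degree_dvd_card hβ hb)
    obtain ⟨lam, hlam⟩ := exists_monoidHom_of_degree_one (isCharacter_of_isIrr hβ)
      (by rw [hb, h2, Nat.cast_one])
    refine ⟨(θ', (homTrivEquiv K).symm lam), Subtype.ext (Subtype.ext ?_)⟩
    rw [e, hlam]
    rfl

end Cfsg.Agent.H89
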