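import Cfsg.Agent.H89.Real2
import Cfsg.Agent.H2.MinNormal
import Cfsg.Agent.H2.Basic

/-! Groups whose real irreducible characters have degree prime to `p` (Isaacs-Navarro). -/

set_option autoImplicit false
set_option linter.style.haveILetI false
set_option linter.unusedSectionVars false

namespace Cfsg.Agent.H89

open Cfsg Cfsg.Agent.H5 Subgroup
open Cfsg.Agent.H6 (fsIndicator)
open Cfsg.Agent.H88 (conjIrr conjIrr_apply conjIrr_conjIrr conjIrr_eq_iff trivIrr)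
open scoped ComplexConjugate commutatorElement

universe u

variable {G : Type*} [Group G]

theorem exists_not_mem_mul_self_mem (C : Subgroup G) (k : ℕ) :
    ∀ t : G, t ^ 2 ^ k ∈ C → t ∉ C → ∃ u, u ∉ C ∧ u * u ∈ C := by
  induction k with
  | zero => intro t h1 h2; exact (h2 (by simpa using h1)).elim
  | succ k ih =>
    intro t h1 h2
    by_cases h : t * t ∈ C
    · exact ⟨t, h2, h⟩
    · exact ih (t * t) (by rwa [← sq, ← pow_mul, ← pow_succ']) h

theorem exists_inverted (M : Subgroup G) [hM : M.Normal] {t : G} {k : ℕ} (ht : t ^ 2 ^ k = 1)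
    (h : t ∉ centralizer (M : Set G)) : ∃ x ∈ M, x ≠ 1 ∧ ∃ g, g * x * g⁻¹ = x⁻¹ := by
  obtain ⟨u, h1, h2⟩ := exists_not_mem_mul_self_mem _ k t (ht ▸ one_mem _) h
  rw [mem_centralizer_iff] at h1 h2
  push Not at h1
  obtain ⟨m, hm, h1⟩ := h1
  refine ⟨m⁻¹ * (u * m * u⁻¹), M.mul_mem (M.inv_mem hm) (hM.conj_mem m hm u), fun e => h1 ?_, u, ?_⟩
  · rw [inv_mul_eq_one, eq_mul_inv_iff_mul_eq] at e
    exact e
  · calc _ = u * m⁻¹ * u⁻¹ * ((u * u) * m) * (u * u)⁻¹ := by group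
      _ = _ := by rw [← h2 m hm]; group

theorem exists_irr_conj_normal [Finite G] (M : Subgroup G) [hM : M.Normal] {x g : G} (hx : x ∈ M)
    (hx1 : x ≠ 1) (h : g * x * g⁻¹ = x⁻¹) : ∃ θ : IrrCharacter M, θ ≠ trivIrr M ∧
      ∃ g : G, ∀ n n' : M, (n' : G) = g * n * g⁻¹ → (θ : M → ℂ) n' = conj ((θ : M → ℂ) n) := by
  obtain ⟨θ, h1, h2⟩ := exists_irr_conj_of_inverts (MulAut.conjNormal g : M ≃* M) (x := ⟨x, hx⟩)
    (fun e => hx1 (congrArg Subtype.val e)) (by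
      rw [show (MulAut.conjNormal g : M ≃* M) ⟨x, hx⟩ = ⟨x, hx⟩⁻¹ from Subtype.ext h])
  exact ⟨θ, h1, g, fun n n' e => by rw [← h2]; exact congrArg _ (Subtype.ext e)⟩

theorem index_eq_card_mul (M S : Subgroup G) [M.Normal] (h : M ⊓ S = ⊥) :
    M.index = Nat.card S * (M ⊔ S).index := by
  rw [← relIndex_mul_index (le_sup_left : M ≤ M ⊔ S), relIndex_sup_left, ← inf_relIndex_right, h,
    relIndex_bot_left]

theorem eq_trivIrr_of_mlt [Finite G] (M : Subgroup G) [hM : M.Normal] {χ : IrrCharacter G}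
    {θ : IrrCharacter M} (h : mlt M.subtype (χ : G → ℂ) (θ : M → ℂ) ≠ 0)
    (h' : mlt M.subtype (χ : G → ℂ) (trivIrr M : M → ℂ) ≠ 0) : θ = trivIrr M := by
  obtain ⟨g, a, -, e⟩ := exists_conj_of_mlt M.subtype M.subtype_injective (by rwa [range_subtype])
    h' h
  exact Subtype.ext (funext e)

theorem exists_linear_under {p : ℕ} [Fact p.Prime] {P : Type*} [Group P] [Finite P]
    (hP : IsPGroup p P) (j : P →* G) {χ : IrrCharacter G} (h : ¬ p ∣ charDegree (χ : G → ℂ)) :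
    ∃ lam : P →* ℂˣ, mlt j (χ : G → ℂ) (fun x => (lam x : ℂ)) ≠ 0 := by
  rw [charDegree_eq_sum j] at h
  obtain ⟨ξ, hξ⟩ : ∃ ξ : IrrCharacter P,
      ¬ p ∣ mlt j (χ : G → ℂ) (ξ : P → ℂ) * charDegree (ξ : P → ℂ) := by
    by_contra h1
    push Not at h1
    exact h (Finset.dvd_sum fun ξ _ => h1 ξ)
  obtain ⟨a, ha⟩ := IsPGroup.iff_card.1 hP
  obtain ⟨i, -, hi⟩ := (Nat.dvd_prime_pow Fact.out).1 (ha ▸ H32.charDegree_dvd_card ξ)
  obtain ⟨lam, e⟩ := exists_monoidHom_of_degree_one (isCharacter_of_isIrr ξ.2) (by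
    rw [← H32.cast_charDegree_irr, hi]
    rcases i with _ | i
    · simp
    · exact (hξ (hi ▸ Dvd.dvd.mul_left (dvd_pow_self p i.succ_ne_zero) _)).elim)
  exact ⟨lam, e ▸ fun h0 => hξ (by simp [h0])⟩

theorem mlt_subtype_irrAct [Finite G] {S C : Subgroup G} (hS : S ≤ normalizer (C : Set G))
    (s : S) (χ : IrrCharacter G) (ξ : IrrCharacter C) :
    mlt C.subtype (χ : G → ℂ) (irrAct S C hS s ξ : C → ℂ) = mlt C.subtype (χ : G → ℂ) ξ.1 := by
  rw [← mlt_comp_equiv C.subtype (fun y => (s : G)⁻¹ * y * (s : G)⁻¹⁻¹) (cj C s (hS s.2)).symm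
    (fun c => by simp [cj_symm_coe]) χ.1 ξ.1, funext fun y => isClassFunction_of_isIrr χ.2 y _]
  rfl

open Classical in
theorem charDegree_congr_sum' [Finite G] {p : ℕ} [Fact p.Prime] {P C : Subgroup G}
    (hP : IsPGroup p P) (hPC : P ≤ normalizer (C : Set G)) (χ : IrrCharacter G) :
    (charDegree (χ : G → ℂ) : ZMod p) =
      ∑ ξ ∈ Finset.univ.filter (fun ξ : IrrCharacter C => SInv P C ξ),
        (mlt C.subtype (χ : G → ℂ) (ξ : C → ℂ) : ZMod p) * charDegree (ξ : C → ℂ) := by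
  rw [charDegree_eq_sum C.subtype, Nat.cast_sum,
    H87.sum_eq_sum_fixed (hP.to_subgroup ⊤) (fun s ξ => irrAct P C hPC s ξ) (by simp) (by simp)
      Finset.univ (by simp) _ fun s _ ξ _ => by rw [charDegree_irrAct, mlt_subtype_irrAct]]
  simp only [Nat.cast_mul, mem_top, forall_true_left, sInv_iff_irrAct hPC]

theorem exists_sInv_under_of_not_dvd [Finite G] {p : ℕ} [Fact p.Prime] {P C : Subgroup G}
    (hP : IsPGroup p P) (hPC : P ≤ normalizer (C : Set G)) {χ : IrrCharacter G}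
    (h : ¬ p ∣ charDegree (χ : G → ℂ)) : ∃ ξ : IrrCharacter C,
      mlt C.subtype (χ : G → ℂ) (ξ : C → ℂ) ≠ 0 ∧ SInv P C ξ ∧ ¬ p ∣ charDegree (ξ : C → ℂ) := by
  classical
  rw [← ZMod.natCast_eq_zero_iff, charDegree_congr_sum' hP hPC] at h
  obtain ⟨ξ, h1, h2⟩ := Finset.exists_ne_zero_of_sum_ne_zero h
  exact ⟨ξ, ne_zero_of_cast_ne_zero (left_ne_zero_of_mul h2), (Finset.mem_filter.1 h1).2,
    fun h3 => right_ne_zero_of_mul h2 ((ZMod.natCast_eq_zero_iff _ _).2 h3)⟩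

theorem eq_trivIrr_of_sInv [Finite G] {V R : Subgroup G} (hV : IsMulCommutative V)
    (hR : R ≤ normalizer (V : Set G)) (h : V ≤ ⁅V, R⁆) {ξ : IrrCharacter V} (hξ : SInv R V ξ) :
    ξ = trivIrr V := by
  obtain ⟨lam, e⟩ := exists_monoidHom_of_comm hV.is_comm.comm ξ.2
  have h1 : V ≤ lam.ker.map V.subtype := h.trans (commutator_le.2 fun v hv r hr =>
    ⟨⟨v, hv⟩ * cj V r (hR hr) ⟨v, hv⟩⁻¹, by
      have := hξ r hr ⟨v, hv⟩⁻¹ (cj V r (hR hr) ⟨v, hv⟩⁻¹) rfl
      rw [e] at this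
      rw [SetLike.mem_coe, MonoidHom.mem_ker, map_mul, Units.ext this, ← map_mul]; simp, by
      simp [cj_coe, commutatorElement_def, mul_assoc]⟩)
  refine Subtype.ext (e.trans (funext fun v => ?_))
  obtain ⟨w, hw, e'⟩ := h1 v.2
  rw [← show w = v from Subtype.ext e', show lam w = 1 from hw]
  rfl

theorem real_quotient [Finite G] {p : ℕ} (V : Subgroup G) [V.Normal]
    (hreal : ∀ χ : IrrCharacter G, (∀ g, ((χ : G → ℂ) g).im = 0) → ¬ p ∣ charDegree (χ : G → ℂ))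
    (χ : IrrCharacter (G ⧸ V)) (h : ∀ g, ((χ : G ⧸ V → ℂ) g).im = 0) :
    ¬ p ∣ charDegree (χ : G ⧸ V → ℂ) :=
  hreal ⟨_, isIrrCharacter_inflate V χ.2⟩ fun _ => h _

theorem map_closure_two_le {Q : Type*} [Group Q] (π : G →* Q) :
    (closure {g : G | ∃ k : ℕ, orderOf g = 2 ^ k}).map π ≤
      closure {g : Q | ∃ k : ℕ, orderOf g = 2 ^ k} := by
  rw [MonoidHom.map_closure]
  refine closure_mono ?_
  rintro _ ⟨g, ⟨k, hk⟩, rfl⟩
  obtain ⟨i, -, hi⟩ := (Nat.dvd_prime_pow Nat.prime_two).1 (hk ▸ orderOf_map_dvd π g)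
  exact ⟨i, hi⟩

theorem isPGroup_of_real_aux (p : ℕ) [hp : Fact p.Prime] (n : ℕ) :
    ∀ (G : Type u) [Group G] [Finite G], Nat.card G = n →
      (∀ χ : IrrCharacter G, (∀ g, ((χ : G → ℂ) g).im = 0) → ¬ p ∣ charDegree (χ : G → ℂ)) →
      ∀ U : Subgroup G, U.Normal → Group.IsSolvable U →
      (∀ u ∈ U, ¬ p ∣ orderOf u → u ∈ closure {g : G | ∃ k : ℕ, orderOf g = 2 ^ k}) →
      U ≤ closure {g : G | g ∈ U ∧ ∃ k : ℕ, g ^ p ^ k = 1} → IsPGroup p U := by
  induction n using Nat.strong_induction_on with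
  | _ n ih =>
  intro G _ _ hn hreal U hU hs hK hgen
  by_cases hU1 : U = ⊥
  · rw [hU1]; exact IsPGroup.of_bot
  obtain ⟨V, q, hq, hV, hV1, hVU, hVc, hVq, hVe, hmin⟩ :=
    H2.exists_minimal_normal_le_of_solvable U hU hs hU1
  let π := QuotientGroup.mk' V
  have hQ : IsPGroup p (U.map π) := ih _ (hn ▸ H2.card_quotient_lt V hV1) (G ⧸ V) rfl
    (real_quotient V hreal) _ (hU.map π (QuotientGroup.mk'_surjective V))
    (Group.isSolvable_of_surjective (π.subgroupMap_surjective U)) (by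
      rintro _ ⟨u, hu, rfl⟩ h
      obtain ⟨a, b, hb, e⟩ := Nat.exists_eq_pow_mul_and_not_dvd (orderOf_pos u).ne' p hp.out.ne_one
      refine H2.mem_of_pow_mem_of_coprime (n := p ^ a)
        (Nat.Coprime.pow_left a (hp.out.coprime_iff_not_dvd.2 h)) ?_
      rw [← map_pow]
      exact map_closure_two_le π ⟨_, hK _ (U.pow_mem hu _) fun h1 => hb (h1.trans
        (orderOf_dvd_of_pow_eq_one (by rw [← pow_mul, ← e, pow_orderOf_eq_one]))), rfl⟩) (by
      refine (map_mono hgen).trans ?_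
      rw [MonoidHom.map_closure]
      refine closure_mono ?_
      rintro _ ⟨g, ⟨hg, k, hk⟩, rfl⟩
      exact ⟨⟨g, hg, rfl⟩, k, by rw [← map_pow, hk, map_one]⟩)
  by_cases hqp : q = p
  · subst hqp
    intro u
    obtain ⟨a, ha⟩ := hQ ⟨_, u, u.2, rfl⟩
    have : (u : G) ^ q ^ a ∈ V := (QuotientGroup.eq_one_iff _).1 (congrArg Subtype.val ha)
    exact ⟨a + 1, Subtype.ext (by simpa [pow_succ, pow_mul] using hVe _ this)⟩
  haveI := Fact.mk hq
  obtain ⟨R⟩ : Nonempty (Sylow p U) := inferInstance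
  set R' := (R : Subgroup U).map U.subtype with hR'
  have hR'p : IsPGroup p R' := R.2.map _
  have hUVR : U ≤ V ⊔ R' := by
    obtain ⟨a, ha⟩ := IsPGroup.iff_card.1 hQ
    have h1 : V.subgroupOf U ⊔ R = ⊤ := by
      rw [← index_eq_one]
      refine Nat.eq_one_of_dvd_coprimes (Nat.Coprime.pow_left a
        (hp.out.coprime_iff_not_dvd.2 R.not_dvd_index)) ?_ (index_dvd_of_le le_sup_right)
      rw [← ha, ← relIndex_ker, QuotientGroup.ker_mk']
      exact index_dvd_of_le le_sup_left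
    have := congrArg (map U.subtype) h1
    rw [Subgroup.map_sup, subgroupOf_map_subtype, ← MonoidHom.range_eq_map, range_subtype] at this
    exact this.ge.trans (sup_le_sup_right inf_le_left _)
  set N := normalizer (R' : Set G) with hN
  have hVN : V ⊔ N = ⊤ := eq_top_iff.2 ((Sylow.normalizer_sup_eq_top R).ge.trans
    (sup_le le_sup_right (hUVR.trans (sup_le_sup_left le_normalizer _))))
  have hnorm : ∀ X : Subgroup G, X ≤ normalizer (V : Set G) := fun X => by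
    rw [normalizer_eq_top]; exact le_top
  have hD : (V ⊓ centralizer (R' : Set G)).Normal := by
    rw [← normalizer_eq_top_iff, eq_top_iff, ← hVN]
    refine sup_le (le_normalizer_of_conj fun v hv d hd => ?_)
      (le_normalizer_inf (hnorm N) (H49.norm_cent le_rfl))
    rwa [show v * d = d * v from congrArg Subtype.val (hVc.is_comm.comm ⟨v, hv⟩ ⟨d, hd.1⟩),
      mul_inv_cancel_right]
  rcases hmin _ hD inf_le_left with hD1 | hD1
  swap
  · have h1 : U ≤ N := hUVR.trans (sup_le ((hD1.ge.trans inf_le_right).trans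
      (centralizer_le_normalizer _)) le_normalizer)
    refine hR'p.to_le (hgen.trans ((closure_le _).2 fun g ⟨hg, k, hk⟩ =>
      mem_of_pow_eq_one h1 ?_ hg hk))
    rw [relIndex, subgroupOf, hR', comap_map_eq_self_of_injective U.subtype_injective]
    exact R.not_dvd_index
  exfalso
  have hVR : V ⊓ R' = ⊥ := (IsPGroup.disjoint_of_ne q p hqp V R' hVq hR'p).eq_bot
  have hVN' : V ⊓ N = ⊥ := eq_bot_iff.2 fun v hv => hD1.le ⟨hv.1, mem_centralizer_iff.2
    fun r hr => by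
      have : r * (v * r⁻¹ * v⁻¹) ∈ V ⊓ R' := ⟨by
        simpa [mul_assoc] using V.mul_mem (hV.conj_mem v hv.1 r) (V.inv_mem hv.1),
        R'.mul_mem hr ((mem_normalizer_iff.1 hv.2 _).1 (R'.inv_mem hr))⟩
      rw [hVR, mem_bot] at this
      rw [← one_mul (v * r), ← this]; group⟩
  obtain ⟨x, hx, hx1, g, hg⟩ : ∃ x ∈ V, x ≠ 1 ∧ ∃ g, g * x * g⁻¹ = x⁻¹ := by
    by_cases hq2 : q = 2
    · obtain ⟨x, hx⟩ := ne_bot_iff_exists_ne_one.1 hV1
      refine ⟨x, x.2, fun e => hx (Subtype.ext e), 1, ?_⟩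
      have := hVe x x.2
      rw [hq2, sq, mul_eq_one_iff_eq_inv] at this
      simpa using this
    by_contra hc
    have h1 : closure {g : G | ∃ k : ℕ, orderOf g = 2 ^ k} ≤ N := (closure_le _).2 fun t ⟨k, hk⟩ => by
      have ht : t ^ 2 ^ k = 1 := by rw [← hk, pow_orderOf_eq_one]
      have h2 : t ∈ centralizer (V : Set G) := by_contra fun h => hc (exists_inverted V ht h)
      have h3 : t ∈ V ⊔ N := hVN ▸ mem_top t
      rw [← SetLike.mem_coe, normal_mul] at h3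
      obtain ⟨v, hv, m, hm, rfl⟩ := h3
      have h4 : Commute v m := mul_left_cancel (a := v)
        ((mem_centralizer_iff.1 h2 v hv).trans (mul_assoc _ _ _))
      beta_reduce at ht
      rw [h4.mul_pow, mul_eq_one_iff_eq_inv] at ht
      have h5 : v ^ 2 ^ k ∈ V ⊓ N := ⟨V.pow_mem hv _, ht ▸ N.inv_mem (N.pow_mem hm _)⟩
      rw [hVN', mem_bot] at h5
      have h6 : v = 1 := orderOf_eq_one_iff.1 (Nat.eq_one_of_dvd_coprimes
        (Nat.Coprime.pow_right k ((Nat.coprime_primes hq Nat.prime_two).2 hq2))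
        (orderOf_dvd_of_pow_eq_one (hVe v hv)) (orderOf_dvd_of_pow_eq_one h5))
      simpa [h6] using hm
    refine hV1 (hVN' ▸ (inf_eq_left.2 fun v hv => h1 (hK v (hVU hv) fun h => hqp ?_)).symm)
    exact ((Nat.prime_dvd_prime_iff_eq hp.out hq).1
      (h.trans (orderOf_dvd_of_pow_eq_one (hVe v hv)))).symm
  obtain ⟨θ, hθ1, hθ⟩ := exists_irr_conj_normal V hx hx1 hg
  letI : Fintype G := Fintype.ofFinite _
  obtain ⟨χ, h1, -, h2, -⟩ := exists_real_over_of_disjoint V N hVN' hθ odd_one (by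
    rw [index_eq_card_mul V N hVN', hVN, index_top, H32.charDegree_eq_of_eq (n := 1)
      (by rw [degree_eq_one_of_comm hVc.is_comm.comm θ.2, Nat.cast_one]), mul_one])
  obtain ⟨ξ, h3, h4, -⟩ := exists_sInv_under_of_not_dvd hR'p (hnorm R')
    (hreal χ ((conjIrr_eq_iff χ).1 h1))
  haveI := hR'p.isNilpotent
  rw [eq_trivIrr_of_sInv hVc (hnorm R') (H49.coprime_comm_eq_of_cent (hnorm R')
    (IsPGroup.coprime_card_of_ne p q (Ne.symm hqp) R' V hR'p hVq) (Or.inl inferInstance) hD1).ge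
    h4] at h3
  exact hθ1 (eq_trivIrr_of_mlt V h2.pos.ne' h3)

theorem closure_orderOf_normal (q : ℕ) : (closure {g : G | ∃ k : ℕ, orderOf g = q ^ k}).Normal := by
  rw [← normalizer_eq_top_iff, eq_top_iff]
  refine le_normalizer_of_conj fun s _ g hg => ?_
  have : (closure {g : G | ∃ k : ℕ, orderOf g = q ^ k}).map (MulAut.conj s).toMonoidHom ≤
      closure {g : G | ∃ k : ℕ, orderOf g = q ^ k} := by
    rw [MonoidHom.map_closure]
    refine closure_mono ?_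
    rintro _ ⟨g, ⟨k, hk⟩, rfl⟩
    exact ⟨k, hk ▸ (MulAut.conj s).orderOf_eq g⟩
  exact this ⟨g, hg, rfl⟩

/-- The `p`-elements of `U` generate a normal `p`-subgroup. -/
theorem exists_normal_pgroup_of_real [Finite G] {p : ℕ} [hp : Fact p.Prime]
    (hsolv : Group.IsSolvable (closure {g : G | ∃ k : ℕ, orderOf g = p ^ k}))
    (hreal : ∀ χ : IrrCharacter G, (∀ g, ((χ : G → ℂ) g).im = 0) → ¬ p ∣ charDegree (χ : G → ℂ))
    (U : Subgroup G) [hU : U.Normal]
    (hK : ∀ u ∈ U, ¬ p ∣ orderOf u → u ∈ closure {g : G | ∃ k : ℕ, orderOf g = 2 ^ k}) :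
    ∃ W : Subgroup G, W.Normal ∧ W ≤ U ∧ IsPGroup p W ∧ ∀ u ∈ U, ∀ k : ℕ, u ^ p ^ k = 1 → u ∈ W := by
  let W := closure {g : G | g ∈ U ∧ ∃ k : ℕ, g ^ p ^ k = 1}
  have hWU : W ≤ U := (closure_le _).2 fun g hg => hg.1
  have hW : W.Normal := by
    rw [← normalizer_eq_top_iff, eq_top_iff]
    refine le_normalizer_of_conj fun s _ g hg => ?_
    have : W.map (MulAut.conj s).toMonoidHom ≤ W := by
      rw [MonoidHom.map_closure]
      refine closure_mono ?_
      rintro _ ⟨g, ⟨hg, k, hk⟩, rfl⟩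
      exact ⟨hU.conj_mem g hg s, k, by rw [← map_pow, hk, map_one]⟩
    exact this ⟨g, hg, rfl⟩
  refine ⟨W, hW, hWU, isPGroup_of_real_aux p _ G rfl hreal W hW (H1.solvable_of_le
    (closure_mono fun g ⟨_, k, hk⟩ => ?_) hsolv) (fun u hu => hK u (hWU hu))
    (closure_mono fun g hg => ⟨subset_closure hg, hg.2⟩), fun u hu k hk => subset_closure ⟨hu, k, hk⟩⟩
  obtain ⟨i, -, hi⟩ := (Nat.dvd_prime_pow hp.out).1 (orderOf_dvd_of_pow_eq_one hk)
  exact ⟨i, hi⟩

theorem sylow_normal_of_real [Finite G] {p : ℕ} [hp : Fact p.Prime]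
    (hsolv : Group.IsSolvable (closure {g : G | ∃ k : ℕ, orderOf g = p ^ k}))
    (hreal : ∀ χ : IrrCharacter G, (∀ g, ((χ : G → ℂ) g).im = 0) → ¬ p ∣ charDegree (χ : G → ℂ))
    (U : Subgroup G) [hU : U.Normal]
    (hK : ∀ u ∈ U, ¬ p ∣ orderOf u → u ∈ closure {g : G | ∃ k : ℕ, orderOf g = 2 ^ k})
    (Q : Sylow p U) : (Q : Subgroup U).Normal := by
  obtain ⟨W, h1, -, h3, h4⟩ := exists_normal_pgroup_of_real hsolv hreal U hK
  rw [← Q.is_maximal' (h3.comap_subtype (K := U)) fun u hu => by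
    obtain ⟨k, hk⟩ := Q.2 ⟨u, hu⟩
    exact h4 u u.2 k (congrArg (fun x : Q => ((x : U) : G)) hk)]
  exact h1.comap _

end Cfsg.Agent.H89
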