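import Cfsg.Agent.H9.Vanish2
import Cfsg.Agent.H88.Vanish
import Cfsg.Agent.H2.MinNormal

/-! Solvable groups whose vanishing `p`-singular elements all have the same order. -/

set_option autoImplicit false
set_option linter.unusedSectionVars false

namespace Cfsg.Agent.H89.VanP

open Cfsg Subgroup
open H9 (NV)

section Act

variable {H V : Type*} [Group H] [CommGroup V] (T : H → V →* V) (T1 : ∀ v, T 1 v = v)
  (Tm : ∀ g h v, T (g * h) v = T g (T h v))
include T1 Tm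

theorem pow_eq_one_of_fix {b : H} {x y : V} (h1 : T b x = x) (h2 : T b y = x * y) : x ^ orderOf b = 1 := by
  have k : ∀ n : ℕ, T (b ^ n) y = x ^ n * y := fun n => by
    induction n with
    | zero => simp [T1]
    | succ n ih => rw [pow_succ', Tm, ih, map_mul, map_pow, h1, h2, pow_succ, mul_assoc]
  have := k (orderOf b)
  rw [pow_orderOf_eq_one, T1] at this
  exact (mul_eq_right.1 this.symm)

/-- an abelian group acting coprimely has a point whose stabilizer acts trivially -/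
theorem regular [Finite H] (A : Subgroup H) (hA : ∀ a ∈ A, ∀ b ∈ A, a * b = b * a)
    (hc : ∀ a ∈ A, ∀ v : V, v ^ orderOf a = 1 → v = 1) :
    ∃ v, ∀ a ∈ A, T a v = v → ∀ u, T a u = u := by
  obtain ⟨v, -, hv⟩ := (measure fun v : V => {a | a ∈ A ∧ T a v = v}.ncard).wf.has_min Set.univ ⟨1, trivial⟩
  refine ⟨v, fun b hb e u => by_contra fun hu => hv (v * (T b u / u)) trivial ?_⟩
  have key : ∀ x y, T b x = x → T b y = x * y → x = 1 := fun x y h1 h2 =>
    hc b hb x (pow_eq_one_of_fix T T1 Tm h1 h2)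
  refine Set.ncard_lt_ncard ⟨fun a ⟨ha, h⟩ => ⟨ha, ?_⟩, fun h => hu ?_⟩ (Set.toFinite _)
  · have c : ∀ x, T b (T a x) = T a (T b x) := fun x => by rw [← Tm, ← Tm, hA a ha b hb]
    refine div_eq_one.1 (key _ (u / T a u) (by rw [map_div, c, e]) ?_)
    rw [map_mul, map_div] at h
    rw [map_div, c]
    rw [← mul_div_assoc, ← mul_div_assoc, div_eq_div_iff_mul_eq_mul] at h
    rw [div_mul_div_comm, div_eq_div_iff_mul_eq_mul, mul_right_comm, h, mul_comm (T b u), mul_right_comm]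
  · have := (h ⟨hb, e⟩).2
    rw [map_mul, e, mul_right_inj] at this
    exact div_eq_one.1 (key _ u this (div_mul_cancel _ _).symm)

theorem norm_eq_one {x : H} {n : ℕ} (hx : x ^ n = 1) (fp : ∀ v, T x v = v → v = 1) (v : V) :
    ∏ i ∈ Finset.range n, T (x ^ i) v = 1 := by
  refine fp _ ?_
  have h1 := Finset.prod_range_succ' (fun i => T (x ^ i) v) n
  rw [Finset.prod_range_succ, hx, pow_zero, mul_left_inj] at h1
  rw [map_prod]
  conv_rhs => rw [h1]
  exact Finset.prod_congr rfl fun i _ => by rw [pow_succ', Tm]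

theorem fp_pair {y a : H} {n : ℕ} (hn : 0 < n) (hc : Commute y a) (hy : y ^ n = 1) (ha : a ^ n = 1)
    (f1 : ∀ j : ℕ, ∀ v, T (y * a ^ j) v = v → v = 1)
    (f2 : ∀ i, 0 < i → i < n → ∀ v, T (a ^ i) v = v → v = 1) (v : V) : v ^ n = 1 := by
  have h1 : ∏ j ∈ Finset.range n, ∏ i ∈ Finset.range n, T ((y * a ^ j) ^ i) v = 1 :=
    Finset.prod_eq_one fun j _ => norm_eq_one T T1 Tm
      (by rw [(hc.pow_right j).mul_pow, hy, one_mul, ← pow_mul, mul_comm, pow_mul, ha, one_pow]) (f1 j) v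
  rw [Finset.prod_comm, Finset.prod_eq_single 0] at h1
  · simpa [T1] using h1
  · intro i hi i0
    have := norm_eq_one T T1 Tm (x := a ^ i) (n := n) (by rw [← pow_mul, mul_comm, pow_mul, ha, one_pow])
      (f2 i (Nat.pos_of_ne_zero i0) (Finset.mem_range.1 hi)) v
    rw [← map_one (T (y ^ i)), ← this, map_prod]
    exact Finset.prod_congr rfl fun j _ => by
      rw [(hc.pow_right j).mul_pow, Tm, ← pow_mul, ← pow_mul, mul_comm]
  · exact fun h => absurd (Finset.mem_range.2 hn) h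

theorem core [Finite H] {p : ℕ} [hp : Fact p.Prime] {v0 : V} (hv : v0 ^ p ≠ 1) (W : H → Prop)
    (hO : pCore p H ≠ ⊥)
    (w1 : ∀ (h : H) (n : ℕ), h ^ n ∈ pCore p H ⊓ centralizer (pCore p H : Set H) → h ^ n ≠ 1 → W h)
    (w2 : ∀ h, ¬ NV h → W h)
    (w3 : ∀ h, W h → p ∣ orderOf h → (∃ k, h ^ p ^ k = 1) ∧ ∀ v, T h v = v → v = 1)
    (w4 : ∀ h, W h → W (h ^ p) → p ∣ orderOf (h ^ p) → False) : ¬ p ^ 2 ∣ Nat.card H := by
  intro hd
  have pO : IsPGroup p (pCore p H) := H22.isPGroup_pCore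
  set O := pCore p H with hOd
  set A := O ⊓ centralizer (O : Set H) with hA
  have nA : A.Normal := inferInstance
  have hpo : ∀ h ∈ O, h ≠ 1 → p ∣ orderOf h := fun h hh h1 => by
    obtain ⟨k, hk⟩ := IsPGroup.iff_orderOf.1 pO ⟨h, hh⟩
    rw [orderOf_mk] at hk
    rw [hk]
    exact dvd_pow_self p fun e => h1 (orderOf_eq_one_iff.1 (by rw [hk, e, pow_zero]))
  have e4 : ∀ h : H, h ^ p ∈ A → h ^ p = 1 := fun h hh => by_contra fun c =>
    w4 h (w1 h p hh c) (w1 _ 1 (by rwa [pow_one]) (by rwa [pow_one])) (hpo _ hh.1 c)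
  have fA : ∀ a ∈ A, a ≠ 1 → ∀ v, T a v = v → v = 1 := fun a ha c =>
    (w3 a (w1 _ 1 (by rwa [pow_one]) (by rwa [pow_one])) (hpo a ha.1 c)).2
  have aP : ∀ a ∈ A, a ^ p = 1 := fun a ha => e4 a (pow_mem ha p)
  have oA : ∀ a ∈ A, a ≠ 1 → orderOf a = p := fun a ha c => orderOf_eq_prime (aP a ha) c
  have FP : ∀ a ∈ A, a ≠ 1 → ∀ y ∈ O, y ^ p = 1 → (∀ j : ℕ, ∀ v, T (y * a ^ j) v = v → v = 1) → False :=
    fun a ha c y hy y1 f => hv (fp_pair T T1 Tm hp.out.pos (ha.2 y hy) y1 (aP a ha) f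
      (fun i i0 ip => fA _ (pow_mem ha i) (pow_ne_one_of_lt_orderOf i0.ne' (by rwa [oA a ha c]))) v0)
  have cyc : ∀ a ∈ A, a ≠ 1 → ∀ y ∈ A, y ∈ zpowers a := fun a ha c y hy => by_contra fun n =>
    FP a ha c y hy.1 (aP y hy) fun j => fA _ (mul_mem hy (pow_mem ha j)) fun e =>
      n (eq_inv_of_mul_eq_one_left e ▸ inv_mem (pow_mem (mem_zpowers a) j))
  obtain ⟨a, ha, a1⟩ : ∃ a ∈ A, a ≠ 1 := by
    have := (Subgroup.nontrivial_iff_ne_bot O).2 hO
    have := pO.center_nontrivial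
    obtain ⟨⟨⟨a, ha⟩, hz⟩, h1⟩ := exists_ne (1 : center O)
    exact ⟨a, ⟨ha, fun x hx => congrArg Subtype.val (mem_center_iff.1 hz ⟨x, hx⟩)⟩,
      fun e => h1 (Subtype.ext (Subtype.ext e))⟩
  have eA : A = zpowers a := le_antisymm (cyc a ha a1) (zpowers_le.2 ha)
  have cA : Nat.card A = p := by rw [eA, Nat.card_zpowers, oA a ha a1]
  have pK : IsPGroup p (MulAut.conjNormal : H →* MulAut A).ker := fun ⟨c, hc⟩ => by
    have c0 : c * a * c⁻¹ = a := congrArg Subtype.val (DFunLike.congr_fun (MonoidHom.mem_ker.1 hc) (⟨a, ha⟩ : A))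
    have cc : Commute c a := mul_inv_eq_iff_eq_mul.1 c0
    obtain ⟨k, m, hm, e⟩ := Nat.exists_eq_pow_mul_and_not_dvd (orderOf_pos c).ne' p hp.out.ne_one
    have e1 : (c ^ p ^ k * a) ^ m = a ^ m := by
      rw [(cc.pow_left _).mul_pow, ← pow_mul, ← e, pow_orderOf_eq_one, one_mul]
    have e2 : a ^ m ≠ 1 := fun h => hm (oA a ha a1 ▸ orderOf_dvd_of_pow_eq_one h)
    obtain ⟨⟨l, hl⟩, -⟩ := w3 _ (w1 _ m (e1 ▸ pow_mem ha m) (e1 ▸ e2))
      ((hpo _ (pow_mem ha m).1 e2).trans (e1 ▸ orderOf_pow_dvd m))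
    refine ⟨k + (l + 1), Subtype.ext ?_⟩
    have : (c ^ p ^ k * a) ^ p ^ (l + 1) = 1 := by rw [pow_succ, pow_mul, hl, one_pow]
    rw [(cc.pow_left _).mul_pow, pow_succ' p l, pow_mul a, aP a ha, one_pow, mul_one, ← pow_succ',
      ← pow_mul, ← pow_add] at this
    exact this
  have iK : (MulAut.conjNormal : H →* MulAut A).ker.index ∣ p - 1 := by
    have : IsCyclic A := isCyclic_of_prime_card cA
    rw [index_ker, ← Nat.totient_prime hp.out, ← cA, ← IsCyclic.card_mulAut]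
    exact card_subgroup_dvd_card _
  have dO : p ^ 2 ∣ Nat.card O := by
    rw [← (MulAut.conjNormal : H →* MulAut A).ker.card_mul_index] at hd
    refine (Nat.Coprime.dvd_of_dvd_mul_right (Nat.Coprime.pow_left 2 (Nat.Coprime.coprime_dvd_right iK ?_)) hd).trans
      (card_dvd_of_le (H22.le_pCore inferInstance pK))
    exact (Nat.coprime_self_sub_right hp.out.one_le).2 (Nat.coprime_one_right p)
  obtain ⟨y, hy, yA, hc⟩ : ∃ y ∈ O, y ∉ A ∧ ∀ o ∈ O, o * y * o⁻¹ * y⁻¹ ∈ A := by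
    have : Nontrivial (O ⧸ A.subgroupOf O) := by
      refine QuotientGroup.nontrivial_iff.2 fun e => ?_
      have h1 := card_le_of_le (subgroupOf_eq_top.1 e)
      have h2 := Nat.le_of_dvd Nat.card_pos dO
      have h3 := hp.out.one_lt
      rw [cA] at h1
      nlinarith
    have := (pO.to_quotient (A.subgroupOf O)).center_nontrivial
    obtain ⟨⟨q, hz⟩, h1⟩ := exists_ne (1 : center (O ⧸ A.subgroupOf O))
    obtain ⟨⟨y, hy⟩, rfl⟩ := QuotientGroup.mk_surjective q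
    refine ⟨y, hy, fun c => h1 (Subtype.ext ((QuotientGroup.eq_one_iff _).2 c)), fun o ho => ?_⟩
    have e := mem_center_iff.1 hz (QuotientGroup.mk ⟨o, ho⟩)
    have : (QuotientGroup.mk (⟨o, ho⟩ * ⟨y, hy⟩ * ⟨o, ho⟩⁻¹ * ⟨y, hy⟩⁻¹) : O ⧸ A.subgroupOf O) = 1 := by
      rw [QuotientGroup.mk_mul, QuotientGroup.mk_mul, QuotientGroup.mk_mul, e, QuotientGroup.mk_inv,
        QuotientGroup.mk_inv]
      group
    exact mem_subgroupOf.1 ((QuotientGroup.eq_one_iff _).1 this)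
  obtain ⟨o, ho, c1⟩ : ∃ o ∈ O, o * y * o⁻¹ * y⁻¹ ≠ 1 := by
    by_contra c
    push Not at c
    exact yA ⟨hy, fun o ho => mul_inv_eq_iff_eq_mul.1 (mul_inv_eq_one.1 (c o ho))⟩
  have cj : ∀ n ∈ A, IsConj y (n * y) := fun n hn => by
    obtain ⟨i, rfl⟩ := (mem_powers_iff_mem_zpowers.2 (cyc _ (hc o ho) c1 n hn))
    refine isConj_iff.2 ⟨o ^ i, ?_⟩
    clear hn
    show _ = (o * y * o⁻¹ * y⁻¹) ^ i * y
    induction i with
    | zero => simp
    | succ i ih =>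
      have e := (pow_mem (hc o ho) i).2 o ho
      calc _ = o * (o ^ i * y * (o ^ i)⁻¹) * o⁻¹ := by group
        _ = (o * (o * y * o⁻¹ * y⁻¹) ^ i) * y * o⁻¹ := by rw [ih]; group
        _ = _ := by rw [e, pow_succ]; simp only [mul_assoc, inv_mul_cancel, mul_one]
  obtain ⟨χ, hχ, hne⟩ : ∃ χ, IsIrrCharacter H χ ∧ χ a ≠ χ 1 := by
    by_contra c
    push Not at c
    exact a1 (H5.eq_one_of_forall_irr c)
  have := Fintype.ofFinite A
  have cf : ∀ n ∈ A, χ (n * y) = χ y := fun n hn =>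
    (H5.isClassFunction_apply_of_isConj (H5.isClassFunction_of_isIrr hχ) (cj n hn)).symm
  have z0 : χ y = 0 := by
    have := H88.sum_normal_mul_eq_zero hχ A ⟨a, ha, hne⟩ y
    rw [Finset.sum_congr rfl fun (n : A) _ => cf n n.2, Finset.sum_const, Finset.card_univ, nsmul_eq_mul] at this
    exact (mul_eq_zero.1 this).resolve_left (Nat.cast_ne_zero.2 Fintype.card_ne_zero)
  refine FP a ha a1 y hy (e4 y ⟨pow_mem hy p, fun o ho => ?_⟩) fun j => ?_
  · have e : Commute (o * y * o⁻¹ * y⁻¹) y := ((hc o ho).2 y hy).symm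
    rw [← mul_inv_eq_iff_eq_mul, ← conj_pow, ← inv_mul_cancel_right (o * y * o⁻¹) y, e.mul_pow, aP _ (hc o ho),
      one_mul]
  · rw [(pow_mem ha j).2 y hy]
    exact (w3 _ (w2 _ fun h => h χ hχ ((cf _ (pow_mem ha j)).trans z0)) (hpo _ (mul_mem (pow_mem ha j).1 hy)
      fun e => yA (eq_inv_of_mul_eq_one_right e ▸ inv_mem (pow_mem ha j)))).2

end Act

universe u

/-- the hypothesis on vanishing elements that passes to quotients -/
structure Hy (p : ℕ) (G : Type*) [Group G] : Prop where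
  h1 : ∀ x y : G, ¬ NV x → x ≠ 1 → (∃ k, x ^ p ^ k = 1) → ¬ NV y → p ∣ orderOf y → ∃ k, y ^ p ^ k = 1
  h2 : ∀ x : G, ¬ NV x → ¬ NV (x ^ p) → p ∣ orderOf (x ^ p) → False

variable {p : ℕ} [hp : Fact p.Prime]

theorem lift_p {G Q : Type*} [Group G] [Finite G] [Group Q] (f : G →* Q) (hf : Function.Surjective f) {y : Q}
    {k : ℕ} (hy : y ^ p ^ k = 1) : ∃ x, f x = y ∧ ∃ l, x ^ p ^ l = 1 := by
  obtain ⟨x, rfl⟩ := hf y
  obtain ⟨l, m, hm, e⟩ := Nat.exists_eq_pow_mul_and_not_dvd (orderOf_pos x).ne' p hp.out.ne_one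
  obtain ⟨c, hc⟩ := exists_pow_eq_self_of_coprime (x := f x) (n := m) (Nat.Coprime.coprime_dvd_right
    (orderOf_dvd_of_pow_eq_one hy) (((Nat.Prime.coprime_iff_not_dvd hp.out).2 hm).symm.pow_right k))
  refine ⟨(x ^ m) ^ c, by rw [map_pow, map_pow, hc], l, ?_⟩
  rw [← pow_mul, mul_comm c, pow_mul, ← pow_mul x, mul_comm m, ← e, pow_orderOf_eq_one, one_pow]

theorem Hy.map {G Q : Type*} [Group G] [Finite G] [Group Q] (h : Hy p G) (f : G →* Q)
    (hf : Function.Surjective f) : Hy p Q := by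
  refine ⟨fun x y hx x1 ⟨k, hk⟩ hy hd => ?_, fun x hx hx' hd => ?_⟩
  · obtain ⟨x, rfl, hl⟩ := lift_p f hf hk
    obtain ⟨y, rfl⟩ := hf y
    obtain ⟨k, hk⟩ := h.h1 x y (fun a => hx (a.map f hf)) (fun e => x1 (by rw [e, map_one])) hl
      (fun a => hy (a.map f hf)) (hd.trans (orderOf_map_dvd f y))
    exact ⟨k, by rw [← map_pow, hk, map_one]⟩
  · obtain ⟨x, rfl⟩ := hf x
    rw [← map_pow] at hx' hd
    exact h.h2 x (fun a => hx (a.map f hf)) (fun a => hx' (a.map f hf)) (hd.trans (orderOf_map_dvd f _))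

theorem Hy.of_order {G : Type*} [Group G] [Finite G]
    (h : ∀ x y : G, ¬ NV x → ¬ NV y → p ∣ orderOf x → p ∣ orderOf y → orderOf x = orderOf y) : Hy p G := by
  refine ⟨fun x y hx x1 ⟨k, hk⟩ hy hd => ⟨k, ?_⟩, fun x hx hx' hd => ?_⟩
  · obtain ⟨l, -, hl⟩ := (Nat.dvd_prime_pow hp.out).1 (orderOf_dvd_of_pow_eq_one hk)
    rw [← orderOf_dvd_iff_pow_eq_one, ← h x y hx hy (hl ▸ dvd_pow_self p fun e =>
      x1 (orderOf_eq_one_iff.1 (by rw [hl, e, pow_zero]))) hd, orderOf_dvd_iff_pow_eq_one, hk]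
  · have d := hd.trans (orderOf_pow_dvd p)
    have := h _ _ hx' hx hd d
    rw [orderOf_pow_of_dvd hp.out.ne_zero d] at this
    exact (Nat.div_lt_self (orderOf_pos x) hp.out.one_lt).ne this

open scoped IsMulCommutative in
theorem step {G : Type*} [Group G] [Finite G] (h : Hy p G) (hO : pCore p G = ⊥) (M : Subgroup G) [M.Normal]
    (hM : M ≠ ⊥) [IsMulCommutative M] {q : ℕ} (hq : q.Prime) (qp : q ≠ p) (hMq : IsPGroup q M)
    (eM : ∀ x ∈ M, x ^ q = 1) (hH : pCore p (G ⧸ M) ≠ ⊥) : ¬ p ^ 2 ∣ Nat.card (G ⧸ M) := by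
  have := Fact.mk hq
  have sj := QuotientGroup.mk'_surjective M
  have cop : ∀ k, (p ^ k).Coprime q := fun k => ((Nat.coprime_primes hp.out hq).2 qp.symm).pow_left k
  let ρ : G ⧸ M →* MulAut M := QuotientGroup.lift M MulAut.conjNormal fun x hx => MulEquiv.ext fun m =>
    Subtype.ext (mul_inv_eq_iff_eq_mul.2 (congrArg Subtype.val (mul_comm (⟨x, hx⟩ : M) m)))
  have hρ : ∀ (g : G) (m : M), (ρ (QuotientGroup.mk' M g) m : G) = g * m * g⁻¹ := fun _ _ => rfl
  have pO : IsPGroup p (pCore p (G ⧸ M)) := H22.isPGroup_pCore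
  set O := pCore p (G ⧸ M)
  set A := O ⊓ centralizer (O : Set (G ⧸ M))
  have nA : A.Normal := inferInstance
  have faith : ∀ a ∈ O, (∀ m, ρ a m = m) → a = 1 := fun a ha e => by
    obtain ⟨g, rfl⟩ := sj a
    set N := O.comap (QuotientGroup.mk' M) ⊓ centralizer (M : Set G)
    have MN : M ≤ N := fun x hx => mem_inf.2 ⟨by
      rw [mem_comap, QuotientGroup.mk'_apply, (QuotientGroup.eq_one_iff x).2 hx]; exact one_mem _,
      fun y hy => congrArg Subtype.val (mul_comm (⟨y, hy⟩ : M) ⟨x, hx⟩)⟩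
    obtain ⟨k, hk⟩ : ∃ k, M.relIndex N = p ^ k := by
      obtain ⟨k, hk⟩ := IsPGroup.iff_card.1 (pO.to_le (map_le_iff_le_comap.2 (inf_le_left : N ≤ _)))
      refine ⟨k, ?_⟩
      rw [← hk, ← relIndex_ker, QuotientGroup.ker_mk']
    obtain ⟨l, hl⟩ := IsPGroup.iff_card.1 hMq
    obtain ⟨K, nK, -, cK, sK⟩ := H22.exists_normal_complement_of_central M N MN inf_le_right
      (by rw [hk, hl]; exact (cop k).symm.pow_left l)
    rw [le_bot_iff.1 ((H22.le_pCore nK (IsPGroup.of_card (cK.trans hk))).trans hO.le), sup_bot_eq] at sK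
    refine (QuotientGroup.eq_one_iff g).2 (sK.ge ⟨ha, fun y hy => ?_⟩)
    exact (mul_inv_eq_iff_eq_mul.1 ((hρ g ⟨y, hy⟩).symm.trans (congrArg Subtype.val (e ⟨y, hy⟩)))).symm
  obtain ⟨lam, hlam⟩ := regular (V := M →* ℂˣ)
    (fun a => MonoidHom.compHom' (ρ a⁻¹).toMonoidHom) (fun v => by ext m; simp) (fun a b v => by ext m; simp) A
    (fun a ha b hb => hb.2 a ha.1) (fun a ha v e => by
      obtain ⟨k, hk⟩ := IsPGroup.iff_orderOf.1 pO ⟨a, ha.1⟩
      rw [orderOf_mk] at hk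
      refine (pow_eq_one_iff_of_coprime (cop k)).1 ⟨hk ▸ e, MonoidHom.ext fun m => ?_⟩
      rw [MonoidHom.pow_apply, ← map_pow, show m ^ q = 1 from Subtype.ext (eM m m.2), map_one, MonoidHom.one_apply])
  have w1 : ∀ (a : G ⧸ M) (n : ℕ), a ^ n ∈ A → a ^ n ≠ 1 → ∀ g, QuotientGroup.mk' M g = a → ¬ NV g := by
    rintro _ n ha a1 g rfl hg
    obtain ⟨x, hx⟩ := hg.exists_conj_mem_inertia M (H5.isIrrCharacter_monoidHom lam)
    have h1 := (H6.mem_inertia_iff M).1 (inv_mem (pow_mem hx n))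
    have e : QuotientGroup.mk' M ((x⁻¹ * g * x) ^ n) =
        (QuotientGroup.mk' M x)⁻¹ * QuotientGroup.mk' M g ^ n * QuotientGroup.mk' M x := by
      rw [map_pow, map_mul, map_mul, map_inv]
      simpa using conj_pow (a := (QuotientGroup.mk' M x)⁻¹) (b := QuotientGroup.mk' M g) (i := n)
    have hb : QuotientGroup.mk' M ((x⁻¹ * g * x) ^ n) ∈ A := e ▸ nA.conj_mem' _ ha _
    have h2 := hlam _ hb (MonoidHom.ext fun m => Units.ext (h1 m))
    have h3 := faith _ (inv_mem hb.1) fun m =>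
      (CommGroup.forall_apply_eq_apply_iff M (M := ℂ)).1 fun u => DFunLike.congr_fun (h2 u) m
    rw [inv_eq_one, e, mul_assoc, inv_mul_eq_one] at h3
    exact a1 (mul_eq_right.1 h3.symm)
  obtain ⟨x, xv, x1, xp⟩ : ∃ x : G, ¬ NV x ∧ x ≠ 1 ∧ ∃ k, x ^ p ^ k = 1 := by
    have := (Subgroup.nontrivial_iff_ne_bot O).2 hH
    have := pO.center_nontrivial
    obtain ⟨⟨⟨a, ha⟩, hz⟩, h1⟩ := exists_ne (1 : center O)
    have a1 : a ≠ 1 := fun e => h1 (Subtype.ext (Subtype.ext e))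
    obtain ⟨k, hk⟩ := pO ⟨a, ha⟩
    obtain ⟨x, e, hx⟩ := lift_p _ sj (show a ^ p ^ k = 1 from congrArg Subtype.val hk)
    exact ⟨x, w1 a 1 (by
      rw [pow_one]
      exact ⟨ha, fun y hy => congrArg Subtype.val (mem_center_iff.1 hz ⟨y, hy⟩)⟩) (by rwa [pow_one]) x e,
      fun c => a1 (by rw [← e, c, map_one]), hx⟩
  have cM : ∀ (m : M) k, m ^ p ^ k = 1 → m = 1 := fun m k e =>
    (pow_eq_one_iff_of_coprime (cop k)).1 ⟨e, Subtype.ext (eM m m.2)⟩
  obtain ⟨m0, m1⟩ : ∃ m : M, m ≠ 1 := by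
    have := (Subgroup.nontrivial_iff_ne_bot M).2 hM
    exact exists_ne 1
  refine core (V := M) (fun a => (ρ a).toMonoidHom) (fun v => by simp) (fun a b v => by simp) (v0 := m0)
    (fun e => m1 (cM m0 1 (by rwa [pow_one]))) (fun a => ∀ g, QuotientGroup.mk' M g = a → ¬ NV g) hH w1
    (fun a ha g e c => ha (e ▸ c.map _ sj)) (fun a ha hd => ?_) fun a ha ha' hd => ?_
  · have k : ∀ g, QuotientGroup.mk' M g = a → ∃ k, g ^ p ^ k = 1 := fun g e =>
      h.h1 x g xv x1 xp (ha g e) (hd.trans (e ▸ orderOf_map_dvd _ g))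
    obtain ⟨g, rfl⟩ := sj a
    obtain ⟨l, hl⟩ := k g rfl
    refine ⟨⟨l, by rw [← map_pow, hl, map_one]⟩, fun m e => ?_⟩
    have c : Commute g m := mul_inv_eq_iff_eq_mul.1 ((hρ g m).symm.trans (congrArg Subtype.val e))
    obtain ⟨n, hn⟩ := k (g * m) (by
      rw [map_mul, QuotientGroup.mk'_apply M m, (QuotientGroup.eq_one_iff _).2 m.2, mul_one])
    refine cM m (l + n) (Subtype.ext ?_)
    have : (g * m) ^ p ^ (l + n) = 1 := by rw [add_comm, pow_add, pow_mul, hn, one_pow]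
    rwa [c.mul_pow, pow_add p, pow_mul g, hl, one_pow, one_mul, ← pow_add] at this
  · obtain ⟨g, rfl⟩ := sj a
    rw [← map_pow] at ha' hd
    exact h.h2 g (ha g rfl) (ha' _ rfl) (hd.trans (orderOf_map_dvd _ _))

theorem main_aux (n : ℕ) : ∀ (G : Type u) [Group G] [Finite G] [Group.IsSolvable G], Nat.card G = n → Hy p G →
    ¬ p ^ 2 ∣ (pCore p G).index := by
  induction n using Nat.strong_induction_on with
  | _ n ih =>
  intro G _ _ _ hn h
  have lt : ∀ N : Subgroup G, N ≠ ⊥ → Nat.card (G ⧸ N) < n := fun N hN => by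
    rw [← hn, ← N.card_mul_index]
    exact lt_mul_of_one_lt_left (Nat.pos_of_ne_zero N.index_ne_zero_of_finite) ((one_lt_card_iff_ne_bot N).2 hN)
  by_cases hO : pCore p G = ⊥
  swap
  · have := ih _ (lt _ hO) (G ⧸ pCore p G) rfl (h.map _ (QuotientGroup.mk'_surjective _))
    rwa [H22.pCore_quotient_pCore, index_bot] at this
  rw [hO, index_bot]
  rcases subsingleton_or_nontrivial G with c | c
  · rw [Nat.card_of_subsingleton (1 : G), Nat.dvd_one]
    exact (Nat.one_lt_pow two_ne_zero hp.out.one_lt).ne'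
  obtain ⟨M, q, hq, nM, hM, cM, pM, eM, -⟩ := H2.exists_minimal_normal_of_solvable (G := G)
  have qp : q ≠ p := by
    rintro rfl
    exact hM (le_bot_iff.1 ((H22.le_pCore nM pM).trans hO.le))
  have key : ¬ p ^ 2 ∣ Nat.card (G ⧸ M) := by
    by_cases hH : pCore p (G ⧸ M) = ⊥
    · have := ih _ (lt _ hM) (G ⧸ M) rfl (h.map _ (QuotientGroup.mk'_surjective _))
      rwa [hH, index_bot] at this
    · exact step h hO M hM hq qp pM eM hH
  have := Fact.mk hq
  obtain ⟨l, hl⟩ := IsPGroup.iff_card.1 pM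
  rw [← M.card_mul_index, hl]
  exact fun d => key ((((Nat.coprime_primes hp.out hq).2 qp.symm).pow 2 l).dvd_of_dvd_mul_left d)

/-- the image of a Sylow `p`-subgroup in `G / O_p(G)` has order at most `p` -/
theorem main {G : Type*} [Group G] [Finite G] [Group.IsSolvable G]
    (h : ∀ x y : G, ¬ NV x → ¬ NV y → p ∣ orderOf x → p ∣ orderOf y → orderOf x = orderOf y) (P : Sylow p G) :
    (pCore p G).relIndex P ∣ p := by
  have hle := H22.pCore_le_sylow P
  obtain ⟨k, hk⟩ := IsPGroup.iff_card.1 P.isPGroup'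
  obtain ⟨l, -, hl⟩ := (Nat.dvd_prime_pow hp.out).1 (hk ▸ relIndex_dvd_card (pCore p G) P)
  have h1 := main_aux _ G rfl (Hy.of_order h)
  have h2 := relIndex_dvd_index_of_le hle
  rw [hl] at h2 ⊢
  have : l ≤ 1 := by
    by_contra! c
    exact h1 ((pow_dvd_pow p c).trans h2)
  simpa using pow_dvd_pow p this

end Cfsg.Agent.H89.VanP
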